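import Groth.Agent.SOGeomLib.Tangent

/-!
# Smoothness and connected fibres of special orthogonal groups
-/

set_option autoImplicit false
set_option linter.style.haveILetI false
set_option linter.unusedSectionVars false
set_option synthInstance.maxHeartbeats 200000
set_option maxHeartbeats 1000000
set_option backward.isDefEq.respectTransparency false

universe u

open CategoryTheory AlgebraicGeometry TensorProduct MonObj
open Groth.Agent.CliffRegLib Groth.Agent.QuadGrpLib

namespace Groth.Agent.SOGeomLib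

variable {R : Type u} [CommRing R] {n : ℕ} {Q : QuadraticForm R (Fin n → R)}
  {G : Over (Spec (CommRingCat.of R))} [GrpObj G]

/-- The criterion. -/
theorem smooth_connected (C : Chart G) (D : QuadGrp.SOrthRep Q G)
    (hQ : QuadGrp.IsNondeg (Pi.basisFun R (Fin n)) (LinearEquiv.refl R R) Q) (N : ℕ)
    (hW : ∀ (K : Type u) [Field K] [Algebra R K], ∃ W : Submodule K (Matrix (Fin n) (Fin n) K),
      Module.finrank K W = N ∧ ∀ (X : Matrix (Fin n) (Fin n) K)
        (g : (DualNumber K ⊗[R] (Fin n → R)) ≃ₗ[DualNumber K] (DualNumber K ⊗[R] (Fin n → R))),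
        QuadSchemeLib.matOf (QuadSchemeLib.coordsOf g) = firstOrder X →
          (g ∈ QuadGrp.sorth Q (DualNumber K) ↔ X ∈ W)) :
    SmoothOfRelativeDimension N G.hom ∧
      ∀ s : ↥(Spec (CommRingCat.of R)), ConnectedSpace ↥(G.hom.fiber s) := by
  have hconn : ∀ q : PrimeSpectrum R,
      _root_.IsPreconnected (PrimeSpectrum.comap (algebraMap R C.B) ⁻¹' {q}) :=
    fun q => isPreconnected_fibre_sorth C D hQ q
  have hpt : ∀ q : PrimeSpectrum R, ∃ p : PrimeSpectrum C.B,
      PrimeSpectrum.comap (algebraMap R C.B) p = q ∧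
        Module.rankAtStalk (R := C.B) Ω[C.B⁄R] p = N := by
    intro q
    let K := q.asIdeal.ResidueField
    letI : Algebra C.B K := (ptHom C D K 1).toRingHom.toAlgebra
    haveI : IsScalarTower R C.B K :=
      IsScalarTower.of_algebraMap_eq fun r => ((ptHom C D K 1).commutes r).symm
    refine ⟨⟨RingHom.ker (algebraMap C.B K), RingHom.ker_isPrime _⟩, PrimeSpectrum.ext ?_, ?_⟩
    · show Ideal.comap (algebraMap R C.B) (RingHom.ker (algebraMap C.B K)) = q.asIdeal
      rw [RingHom.comap_ker, ← IsScalarTower.algebraMap_eq]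
      exact Ideal.ker_algebraMap_residueField q.asIdeal
    · obtain ⟨W, hWdim, hW'⟩ := hW K
      rw [SmoothRelDimLib.rankAtStalk_eq_of_derivation,
        finrank_derivation Q C D K (AlgHom.ext fun b => rfl) W hW', hWdim]
  refine ⟨(C.smoothOfRelativeDimension_iff N).2 (SmoothRelDimLib.locally_relDim N fun p =>
    SmoothRelDimLib.rankAtStalk_eq_of_fibres N hconn hpt p), ?_⟩
  exact C.connectedSpace_fiber fun q => ⟨hconn q, (hpt q).imp fun p h => h.1⟩

theorem so_even (m : ℕ) (hm : 1 ≤ m) (Q : QuadraticForm R (Fin (2 * m) → R))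
    (hQ : QuadGrp.IsRegular Q) (D : QuadGrp.SOrthRep Q G) :
    SmoothOfRelativeDimension (m * (2 * m - 1)) G.hom ∧
      ∀ s : ↥(Spec (CommRingCat.of R)), ConnectedSpace ↥(G.hom.fiber s) := by
  obtain ⟨C⟩ := exists_chart_even hm Q hQ D
  refine smooth_connected C D ⟨fun _ => hQ, fun h => absurd (even_two_mul m) (Nat.not_even_iff_odd.2 h)⟩ _
    fun K _ _ => ⟨lie (QuadSchemeLib.tab Q K) false, ?_, fun X g hg => ?_⟩
  · have hdet : (QuadGrpLib.polarOf (QuadSchemeLib.tab Q K)).det ≠ 0 := by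
      have h : IsUnit (QuadGrpLib.polarOf (QuadSchemeLib.tab Q K)).det := by
        rw [← QuadGrpLib.map_polarOf, ← RingHom.mapMatrix_apply, ← RingHom.map_det]
        refine IsUnit.map _ ?_
        rw [← QuadGrpLib.polarMat_eq_polarOf]
        exact QuadGrpLib.isUnit_det_polarMat _ hQ
      exact h.ne_zero
    rw [finrank_lie _ _ (Or.inl hdet)]
    refine Nat.eq_of_mul_eq_mul_right Nat.zero_lt_two ((card_pairs _).trans ?_)
    ring
  · rw [mem_sorth_firstOrder_even hm Q hQ X g hg, mem_lie]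
    exact ⟨fun h => ⟨h, fun h' => Bool.false_ne_true h' |>.elim⟩, fun h => h.1⟩

theorem so_odd (m : ℕ) (Q : QuadraticForm R (Fin (2 * m + 1) → R))
    (hQ : QuadGrp.IsSemiregular (Pi.basisFun R (Fin (2 * m + 1))) (LinearEquiv.refl R R) Q)
    (D : QuadGrp.SOrthRep Q G) :
    SmoothOfRelativeDimension (m * (2 * m + 1)) G.hom ∧
      ∀ s : ↥(Spec (CommRingCat.of R)), ConnectedSpace ↥(G.hom.fiber s) := by
  obtain ⟨C⟩ := exists_chart_odd Q hQ D
  refine smooth_connected C D ⟨fun h => absurd h (Nat.not_even_iff_odd.2 ⟨m, rfl⟩), fun _ => hQ⟩ _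
    fun K _ _ => ⟨lie (QuadSchemeLib.tab Q K) true, ?_, fun X g hg => ?_⟩
  · set a := QuadSchemeLib.tab Q K with ha
    have hd : QuadGrpLib.hd a ≠ 0 := by
      rw [ha, ← QuadGrpLib.map_hd]
      exact (IsUnit.map (algebraMap R K) hQ).ne_zero
    have h : (QuadGrpLib.polarOf a).det ≠ 0 ∨
        true = true ∧ ∃ (w : Fin (2 * m + 1) → K) (i : Fin (2 * m + 1)), w i ≠ 0 ∧
          Matrix.mulVec (QuadGrpLib.polarOf a) w = 0 ∧
          ∀ z, Matrix.mulVec (QuadGrpLib.polarOf a) z = 0 → z i = 0 → z = 0 := by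
      by_cases h2 : (2 : K) = 0
      · obtain ⟨i, hi⟩ := QuadSchemeLib.exists_cof_ne_zero h2 a hd
        have hker : ∀ z, Matrix.mulVec (QuadGrpLib.polarOf a) z = 0 → z i = 0 → z = 0 := by
          intro z hz hzi
          by_contra hne
          refine hi (Matrix.exists_mulVec_eq_zero_iff.1 ⟨z, hne, funext fun r => ?_⟩)
          rcases eq_or_ne r i with rfl | hr
          · rw [Matrix.mulVec, Matrix.updateRow_self, single_dotProduct, _root_.one_mul, hzi]
            rfl
          · rw [Matrix.mulVec, Matrix.updateRow_ne hr]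
            exact congrFun hz r
        obtain ⟨w, hw, hPw⟩ := Matrix.exists_mulVec_eq_zero_iff.2
          (show (QuadGrpLib.polarOf a).det = 0 by rw [← QuadGrpLib.two_mul_hd ⟨m, rfl⟩, h2, zero_mul])
        exact Or.inr ⟨rfl, w, i, fun h0 => hw (hker w hPw h0), hPw, hker⟩
      · left
        rw [← QuadGrpLib.two_mul_hd ⟨m, rfl⟩]
        exact mul_ne_zero h2 hd
    rw [finrank_lie _ _ h]
    refine Nat.eq_of_mul_eq_mul_right Nat.zero_lt_two ((card_pairs _).trans ?_)
    rw [Nat.add_sub_cancel]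
    ring
  · rw [mem_sorth_firstOrder_odd Q ⟨m, rfl⟩ X g hg, mem_lie]
    exact ⟨fun h => ⟨h.1, fun _ => h.2⟩, fun h => ⟨h.1, h.2 rfl⟩⟩

end Groth.Agent.SOGeomLib
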