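import Groth.Agent.SOGeomLib.Fibre

/-!
# Affine smooth charts of special orthogonal groups
-/

set_option autoImplicit false
set_option linter.style.haveILetI false
set_option linter.unusedSectionVars false
set_option synthInstance.maxHeartbeats 200000
set_option maxHeartbeats 1000000
set_option backward.isDefEq.respectTransparency false

universe u

open CategoryTheory AlgebraicGeometry TensorProduct MonObj
open Groth.Agent.CliffRegLib Groth.Agent.QuadGrpLib

namespace Groth.Agent.SOGeomLib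

variable {R : Type u} [CommRing R] {n : ℕ} (Q : QuadraticForm R (Fin n → R))
  {G : Over (Spec (CommRingCat.of R))} [GrpObj G]

theorem finitePresentation_quot {σ : Type} [Finite σ] (E : Finset (MvPolynomial σ R)) :
    Algebra.FinitePresentation R (MvPolynomial σ R ⧸ Ideal.span (E : Set (MvPolynomial σ R))) :=
  Algebra.FinitePresentation.quotient ⟨E, rfl⟩

/-- The chart in odd rank. -/
theorem exists_chart_odd {m : ℕ} (Q : QuadraticForm R (Fin (2 * m + 1) → R))
    (hQ : QuadGrp.IsSemiregular (Pi.basisFun R (Fin (2 * m + 1))) (LinearEquiv.refl R R) Q)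
    (D : QuadGrp.SOrthRep Q G) : Nonempty (Chart G) := by
  obtain ⟨M⟩ := QuadSchemeLib.exists_model (Q := Q) (G := G) true _ D fun A _ _ g =>
    (mem_sorth_odd_iff Q ⟨m, rfl⟩ g).trans
      ⟨fun h => ⟨h.1, fun _ => MonoidHom.mem_ker.1 h.2⟩,
        fun h => ⟨h.1, MonoidHom.mem_ker.2 (h.2 rfl)⟩⟩
  obtain ⟨f, hf⟩ := M.exists_iso
  haveI := finitePresentation_quot (QuadSchemeLib.eqns Q true)
  haveI : Algebra.FormallySmooth R M.Ring := by
    refine (QuadSchemeLib.formallySmooth_iff_lifts _).2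
      (QuadSchemeLib.lifts_of true fun A _ _ I hI gb hgb hdet => ?_)
    have hu : IsUnit (QuadGrpLib.hd
        (algebraMap R A ∘ QuadGrp.coeffs (Pi.basisFun R (Fin (2 * m + 1))) (LinearEquiv.refl R R) Q)) := by
      rw [← QuadGrpLib.map_hd]
      exact IsUnit.map _ hQ
    obtain ⟨g, hg, hd, hmap⟩ := QuadSchemeLib.exists_lift_odd hI _ hu gb hgb (hdet rfl)
    exact ⟨g, hg, fun _ => hd, hmap⟩
  haveI : Algebra.Smooth R M.Ring := ⟨inferInstance, inferInstance⟩
  exact ⟨{ B := M.Ring, f := f, iso := hf }⟩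

section Coords

variable {A A' : Type u} [CommRing A] [Algebra R A] [CommRing A'] [Algebra R A'] (φ : A →ₐ[R] A')

theorem det_coordsOf (g : (A ⊗[R] (Fin n → R)) ≃ₗ[A] (A ⊗[R] (Fin n → R))) :
    (QuadSchemeLib.matOf (QuadSchemeLib.coordsOf g)).det * QuadSchemeLib.coordsOf g none = 1 := by
  have h : (QuadSchemeLib.matOf (QuadSchemeLib.coordsOf g)).det = ((LinearEquiv.det g : Aˣ) : A) := by
    rw [show QuadSchemeLib.matOf (QuadSchemeLib.coordsOf g) =
      LinearMap.toMatrix (QuadSchemeLib.bA A) (QuadSchemeLib.bA A) g.toLinearMap from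
        Matrix.ext fun i j => rfl, LinearMap.det_toMatrix, LinearEquiv.coe_det]
  rw [h]
  change _ * ((LinearEquiv.det g⁻¹ : Aˣ) : A) = 1
  rw [map_inv, Units.mul_inv]

/-- Equal coordinates give compatible automorphisms. -/
theorem chg_of_coords (g : (A ⊗[R] (Fin n → R)) ≃ₗ[A] (A ⊗[R] (Fin n → R)))
    (g' : (A' ⊗[R] (Fin n → R)) ≃ₗ[A'] (A' ⊗[R] (Fin n → R)))
    (h : ∀ i j, QuadSchemeLib.coordsOf g' (some (i, j)) = φ (QuadSchemeLib.coordsOf g (some (i, j))))
    (v : Fin n → R) : g' (1 ⊗ₜ v) = chg φ (g (1 ⊗ₜ v)) := by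
  have hb : ∀ j, g' (1 ⊗ₜ Pi.basisFun R (Fin n) j) = chg φ (g (1 ⊗ₜ Pi.basisFun R (Fin n) j)) :=
    fun j => (QuadSchemeLib.bA A').ext_elem fun i => by
      show _ = (QuadSchemeLib.bA A').repr (LinearMap.rTensor (Fin n → R) φ.toLinearMap _) i
      rw [QuadSchemeLib.repr_rTensor]
      have := h i j
      rw [QuadSchemeLib.coordsOf, QuadSchemeLib.coordsOf, Option.elim_some, Option.elim_some,
        LinearMap.toMatrix_apply, LinearMap.toMatrix_apply, Module.Basis.baseChange_apply,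
        Module.Basis.baseChange_apply] at this
      exact this
  exact DFunLike.congr_fun ((Pi.basisFun R (Fin n)).ext
    (f₁ := (g'.toLinearMap.restrictScalars R).comp (TensorProduct.mk R A' (Fin n → R) 1))
    (f₂ := (chg φ).comp ((g.toLinearMap.restrictScalars R).comp (TensorProduct.mk R A (Fin n → R) 1)))
    hb) v

/-- Compatible automorphisms have equal coordinates. -/
theorem coords_of_chg (g : (A ⊗[R] (Fin n → R)) ≃ₗ[A] (A ⊗[R] (Fin n → R)))
    (g' : (A' ⊗[R] (Fin n → R)) ≃ₗ[A'] (A' ⊗[R] (Fin n → R)))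
    (h : ∀ v, g' (1 ⊗ₜ v) = chg φ (g (1 ⊗ₜ v))) :
    QuadSchemeLib.coordsOf g' = φ ∘ QuadSchemeLib.coordsOf g := by
  have hs : ∀ i j, QuadSchemeLib.coordsOf g' (some (i, j)) =
      φ (QuadSchemeLib.coordsOf g (some (i, j))) := fun i j => by
    rw [QuadSchemeLib.coordsOf, QuadSchemeLib.coordsOf, Option.elim_some, Option.elim_some,
      LinearMap.toMatrix_apply, LinearMap.toMatrix_apply, Module.Basis.baseChange_apply,
      Module.Basis.baseChange_apply, LinearEquiv.coe_coe, LinearEquiv.coe_coe, h]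
    exact QuadSchemeLib.repr_rTensor φ _ i
  funext o
  rcases o with - | ⟨i, j⟩
  · have h1 := congrArg φ (det_coordsOf g)
    have hm : φ (QuadSchemeLib.matOf (QuadSchemeLib.coordsOf g)).det =
        (QuadSchemeLib.matOf (QuadSchemeLib.coordsOf g')).det := by
      rw [AlgHom.map_det]
      congr 1
      exact Matrix.ext fun i j => (hs i j).symm
    rw [map_mul, map_one, hm] at h1
    exact (IsUnit.of_mul_eq_one _ (det_coordsOf g')).mul_left_cancel ((det_coordsOf g').trans h1.symm)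
  · exact hs i j

/-- An automorphism with given coordinates. -/
theorem exists_equiv_coords (x : Option (Fin n × Fin n) → A)
    (hx : ∀ p ∈ QuadSchemeLib.eqns Q false, MvPolynomial.aeval x p = 0) :
    ∃ g ∈ QuadGrp.O (QuadGrp.baseChangeForm A Q), QuadSchemeLib.coordsOf g = x := by
  obtain ⟨h1, h2, -⟩ := (QuadSchemeLib.eqns_iff Q false x).1 hx
  obtain ⟨g, hg⟩ : ∃ g : (A ⊗[R] (Fin n → R)) ≃ₗ[A] (A ⊗[R] (Fin n → R)),
      LinearMap.toMatrix (QuadSchemeLib.bA A) (QuadSchemeLib.bA A) g.toLinearMap = QuadSchemeLib.matOf x :=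
    ⟨Matrix.toLinearEquiv (QuadSchemeLib.bA (R := R) A) (QuadSchemeLib.matOf x) h1.1,
      LinearMap.toMatrix_toLin _ _ _⟩
  refine ⟨g, (QuadSchemeLib.mem_O_iff Q g).2 (by rw [hg]; exact h1), funext fun o => ?_⟩
  rcases o with - | ⟨i, j⟩
  · have h3 : QuadSchemeLib.matOf (QuadSchemeLib.coordsOf g) = QuadSchemeLib.matOf x :=
      (Matrix.ext fun i j => rfl : QuadSchemeLib.matOf (QuadSchemeLib.coordsOf g) =
        LinearMap.toMatrix (QuadSchemeLib.bA A) (QuadSchemeLib.bA A) g.toLinearMap).trans hg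
    have h4 := det_coordsOf g
    rw [h3] at h4
    exact h1.1.mul_left_cancel (h4.trans h2.symm)
  · exact congrFun (congrFun hg i) j

theorem coords_eqns (g : (A ⊗[R] (Fin n → R)) ≃ₗ[A] (A ⊗[R] (Fin n → R)))
    (hg : g ∈ QuadGrp.O (QuadGrp.baseChangeForm A Q)) :
    ∀ p ∈ QuadSchemeLib.eqns Q false, MvPolynomial.aeval (QuadSchemeLib.coordsOf g) p = 0 :=
  (QuadSchemeLib.eqns_iff Q false _).2 ⟨by
    rw [show QuadSchemeLib.matOf (QuadSchemeLib.coordsOf g) =
      LinearMap.toMatrix (QuadSchemeLib.bA A) (QuadSchemeLib.bA A) g.toLinearMap from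
        Matrix.ext fun i j => rfl]
    exact (QuadSchemeLib.mem_O_iff Q g).1 hg, det_coordsOf g, by simp⟩

theorem coordsOf_injective {g g' : (A ⊗[R] (Fin n → R)) ≃ₗ[A] (A ⊗[R] (Fin n → R))}
    (h : QuadSchemeLib.coordsOf g = QuadSchemeLib.coordsOf g') : g = g' :=
  LinearEquiv.toLinearMap_injective
    ((LinearMap.toMatrix (QuadSchemeLib.bA A) (QuadSchemeLib.bA A)).injective
      (Matrix.ext fun i j => congrFun h (some (i, j))))

end Coords

/-- The open part of a smooth universal isometry where the Dickson idempotent is one is a chart. -/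
theorem exists_chart_even_aux {m : ℕ} (hm : 1 ≤ m) (Q : QuadraticForm R (Fin (2 * m) → R))
    (hQ : QuadGrp.IsRegular Q) (D : QuadGrp.SOrthRep Q G)
    (B₀ : Type u) [CommRing B₀] [Algebra R B₀] [Algebra.Smooth R B₀]
    (g : (B₀ ⊗[R] (Fin (2 * m) → R)) ≃ₗ[B₀] (B₀ ⊗[R] (Fin (2 * m) → R)))
    (hg : g ∈ QuadGrp.O (QuadGrp.baseChangeForm B₀ Q))
    (huniv : ∀ (A : Type u) [CommRing A] [Algebra R A]
      (g' : (A ⊗[R] (Fin (2 * m) → R)) ≃ₗ[A] (A ⊗[R] (Fin (2 * m) → R))),
      g' ∈ QuadGrp.O (QuadGrp.baseChangeForm A Q) →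
        ∃ φ : B₀ →ₐ[R] A, QuadSchemeLib.coordsOf g' = φ ∘ QuadSchemeLib.coordsOf g)
    (huniq : ∀ (A : Type u) [CommRing A] [Algebra R A] (φ₁ φ₂ : B₀ →ₐ[R] A),
      φ₁ ∘ QuadSchemeLib.coordsOf g = φ₂ ∘ QuadSchemeLib.coordsOf g → φ₁ = φ₂) :
    Nonempty (Chart G) := by
  have hpos : 0 < 2 * m := by omega
  have hev : Even (2 * m) := even_two_mul m
  obtain ⟨z, s, t, CD⟩ := exists_centreDatum (QuadSchemeLib.bA B₀) (isRegular_baseChange Q hQ B₀)
  obtain ⟨ε, hε, hεz⟩ := CD.exists_dickson g hg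
    (span_range_eq_top (QuadSchemeLib.bA B₀) hpos (isRegular_baseChange Q hQ B₀))
    (QuadSchemeLib.bA B₀) (isRegular_baseChange Q hQ B₀)
  let B := Localization.Away ε
  haveI : Algebra.Smooth B₀ B := Algebra.Smooth.of_isLocalization_Away ε
  haveI : Algebra.Smooth R B := Algebra.Smooth.comp R B₀ B
  let π' : B₀ →ₐ[R] B := IsScalarTower.toAlgHom R B₀ B
  have hε1 : π' ε = 1 := by
    have h := IsLocalization.Away.algebraMap_isUnit ε (S := B)
    refine h.mul_left_cancel ?_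
    show π' ε * π' ε = π' ε * 1
    rw [← map_mul, hε, _root_.mul_one]
  -- the key equivalence: the Dickson idempotent of a specialisation
  have key : ∀ (A : Type u) [CommRing A] [Algebra R A] (φ : B₀ →ₐ[R] A)
      (g' : (A ⊗[R] (Fin (2 * m) → R)) ≃ₗ[A] (A ⊗[R] (Fin (2 * m) → R))),
      (∀ v, g' (1 ⊗ₜ v) = chg φ (g (1 ⊗ₜ v))) → g' ∈ QuadGrp.O (QuadGrp.baseChangeForm A Q) →
      (g' ∈ QuadGrp.sorth Q A ↔ φ ε = 1) := by
    intro A _ _ φ g' hg' hgO'
    have CD' := centreDatum_bc Q φ CD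
    have hreg := isRegular_baseChange Q hQ A
    have hspan := span_range_eq_top (QuadSchemeLib.bA A) hpos hreg
    have hf : fmap g' hgO' (QuadSchemeLib.bc Q φ z) = φ ε • QuadSchemeLib.bc Q φ z +
        (1 - φ ε) • (algebraMap A _ (φ s) - QuadSchemeLib.bc Q φ z) := by
      rw [← bc_fmap Q φ g hg g' hgO' (fun z => chg_comm φ g.toLinearMap g'.toLinearMap hg' z), hεz,
        map_add, QuadSchemeLib.bc_smul, QuadSchemeLib.bc_smul, map_sub, map_one, map_sub,
        QuadSchemeLib.bc_algebraMap]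
    rw [mem_sorth_even_iff Q hev]
    constructor
    · rintro ⟨h, hd⟩
      have := (CD'.dicksonTrivial_iff g' hgO' hspan (QuadSchemeLib.bA A) hreg).1 hd
      refine CD'.dickson_unique hspan (QuadSchemeLib.bA A) ((hf.symm.trans this).trans ?_)
      rw [one_smul, sub_self, zero_smul, add_zero]
    · intro h
      refine ⟨hgO', (CD'.dicksonTrivial_iff g' hgO' hspan (QuadSchemeLib.bA A) hreg).2 ?_⟩
      rw [hf, h, one_smul, sub_self, zero_smul, add_zero]
  obtain ⟨gB, hgB, hgBx⟩ := exists_equiv_coords Q (A := B) (π' ∘ QuadSchemeLib.coordsOf g) (by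
    intro p hp
    have := congrArg π' (coords_eqns Q g hg p hp)
    rwa [map_zero, MvPolynomial.comp_aeval_apply] at this)
  have hgBg : ∀ v, gB (1 ⊗ₜ v) = chg π' (g (1 ⊗ₜ v)) :=
    chg_of_coords π' g gB fun i j => by rw [hgBx]; rfl
  have hmem : gB ∈ QuadGrp.sorth Q B := (key B π' gB hgBg hgB).2 hε1
  let f : QuadGrp.specOver R B ⟶ G := (D.pts B).symm ⟨gB, hmem⟩
  have hf : D.pts B f = ⟨gB, hmem⟩ := (D.pts B).apply_symm_apply _
  refine ⟨{ B := B, f := f, iso := QuadSchemeLib.isIso_of_points f fun A _ _ => ⟨fun ψ₁ ψ₂ h => ?_, fun y => ?_⟩ }⟩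
  · have hc : ∀ ψ : B →ₐ[R] A,
        QuadSchemeLib.coordsOf (D.pts A (QuadGrp.specOverMap R ψ ≫ f)).1 =
          (ψ.comp π') ∘ QuadSchemeLib.coordsOf g := fun ψ => by
      rw [coords_of_chg ψ gB _ fun v => ?_, hgBx]
      · rfl
      · have := D.natural B A ψ f v
        rw [hf] at this
        exact this
    refine IsLocalization.algHom_ext (Submonoid.powers ε) (huniq A _ _ ?_)
    exact (hc ψ₁).symm.trans ((congrArg (fun y => QuadSchemeLib.coordsOf (D.pts A y).1) h).trans (hc ψ₂))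
  · obtain ⟨g', hg'⟩ : ∃ g', g' = (D.pts A y).1 := ⟨_, rfl⟩
    have hgS : g' ∈ QuadGrp.sorth Q A := hg' ▸ (D.pts A y).2
    have hgO : g' ∈ QuadGrp.O (QuadGrp.baseChangeForm A Q) := ((mem_sorth_even_iff Q hev g').1 hgS).1
    obtain ⟨φ, hφx⟩ := huniv A g' hgO
    have hφg : ∀ v, g' (1 ⊗ₜ v) = chg φ (g (1 ⊗ₜ v)) :=
      chg_of_coords φ g g' fun i j => by rw [hφx]; rfl
    have h1 : φ ε = 1 := (key A φ g' hφg hgO).1 hgS
    let ψ : B →ₐ[R] A := IsLocalization.liftAlgHom (M := Submonoid.powers ε) (f := φ) (by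
      rintro ⟨_, i, rfl⟩
      rw [map_pow, h1, one_pow]
      exact isUnit_one)
    refine ⟨ψ, (D.pts A).injective (Subtype.ext ?_)⟩
    rw [← hg']
    refine pts_comp_eq D ψ f g' fun v => ?_
    rw [hf]
    refine chg_of_coords ψ gB g' (fun i j => ?_) v
    rw [hgBx, hφx]
    exact (IsLocalization.lift_eq _ _).symm

/-- The chart in even rank. -/
theorem exists_chart_even {m : ℕ} (hm : 1 ≤ m) (Q : QuadraticForm R (Fin (2 * m) → R))
    (hQ : QuadGrp.IsRegular Q) (D : QuadGrp.SOrthRep Q G) : Nonempty (Chart G) := by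
  haveI := finitePresentation_quot (QuadSchemeLib.eqns Q false)
  haveI : Algebra.FormallySmooth R (MvPolynomial (Option (Fin (2 * m) × Fin (2 * m))) R ⧸
      Ideal.span (QuadSchemeLib.eqns Q false : Set (MvPolynomial _ R))) := by
    refine (QuadSchemeLib.formallySmooth_iff_lifts _).2
      (QuadSchemeLib.lifts_of false fun A _ _ I hI gb hgb _ => ?_)
    have hu : IsUnit (QuadGrpLib.polarOf (QuadSchemeLib.tab Q A)).det := by
      rw [← QuadGrpLib.map_polarOf, ← RingHom.mapMatrix_apply, ← RingHom.map_det]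
      refine IsUnit.map _ ?_
      rw [← QuadGrpLib.polarMat_eq_polarOf]
      exact QuadGrpLib.isUnit_det_polarMat _ hQ
    obtain ⟨g, hg, hmap⟩ := QuadSchemeLib.exists_lift_regular hI _ hu gb hgb
    exact ⟨g, hg, by simp, hmap⟩
  haveI : Algebra.Smooth R (MvPolynomial (Option (Fin (2 * m) × Fin (2 * m))) R ⧸
      Ideal.span (QuadSchemeLib.eqns Q false : Set (MvPolynomial _ R))) := ⟨inferInstance, inferInstance⟩
  obtain ⟨g, hg, hgx⟩ := exists_equiv_coords Q
    (A := MvPolynomial (Option (Fin (2 * m) × Fin (2 * m))) R ⧸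
      Ideal.span (QuadSchemeLib.eqns Q false : Set (MvPolynomial _ R)))
    (fun i => Ideal.Quotient.mkₐ R _ (MvPolynomial.X i)) fun p hp => by
      rw [QuadSchemeLib.Model.aeval_mk]
      exact Ideal.Quotient.eq_zero_iff_mem.2 (Ideal.subset_span hp)
  refine exists_chart_even_aux hm Q hQ D _ g hg (fun A _ _ g' hg' => ?_) (fun A _ _ φ₁ φ₂ h => ?_)
  · refine ⟨Ideal.Quotient.liftₐ _ (MvPolynomial.aeval (QuadSchemeLib.coordsOf g')) fun p hp =>
      (Ideal.span_le (I := RingHom.ker (MvPolynomial.aeval (QuadSchemeLib.coordsOf g')))).2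
        (fun q hq => coords_eqns Q g' hg' q hq) hp, ?_⟩
    rw [hgx]
    exact funext fun i => (MvPolynomial.aeval_X _ i).symm
  · refine Ideal.Quotient.algHom_ext _ (MvPolynomial.algHom_ext fun i => ?_)
    have h' := congrFun h i
    rw [Function.comp_apply, Function.comp_apply, hgx] at h'
    exact h'

end Groth.Agent.SOGeomLib
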