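import Groth.Agent.SOGeomLib.Fibre

/-!
# Fibres of special orthogonal groups are connected
-/

set_option autoImplicit false
set_option linter.style.haveILetI false
set_option linter.unusedSectionVars false
set_option synthInstance.maxHeartbeats 200000
set_option maxHeartbeats 1000000

universe u

open CategoryTheory AlgebraicGeometry TensorProduct MonObj
open Groth.Agent.CliffRegLib Groth.Agent.QuadGrpLib

namespace Groth.Agent.SOGeomLib

variable {R : Type u} [CommRing R] {n : ℕ} {Q : QuadraticForm R (Fin n → R)}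
  {G : Over (Spec (CommRingCat.of R))} [GrpObj G] (C : Chart G) (D : QuadGrp.SOrthRep Q G)

theorem aniso_baseChange (hQ : QuadGrp.IsNondeg (Pi.basisFun R (Fin n)) (LinearEquiv.refl R R) Q)
    (k : Type u) [Field k] [Algebra R k] :
    Aniso (QuadGrp.baseChangeForm k Q) ∧
      (Even (Module.finrank k (k ⊗[R] (Fin n → R))) → QuadGrp.IsRegular (QuadGrp.baseChangeForm k Q)) := by
  have hfin : Module.finrank k (k ⊗[R] (Fin n → R)) = n := by
    rw [Module.finrank_eq_card_basis (QuadSchemeLib.bA (R := R) (n := n) k), Fintype.card_fin]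
  rw [hfin]
  rcases Nat.even_or_odd n with he | ⟨m, rfl⟩
  · refine ⟨fun x hx _ => (isRegular_baseChange Q (hQ.1 he) k).1 ?_,
      fun _ => isRegular_baseChange Q (hQ.1 he) k⟩
    refine LinearMap.ext fun y => ?_
    rw [map_zero, LinearMap.zero_apply, QuadraticMap.polarBilin_apply_apply]
    exact hx y
  · refine ⟨fun x hx hx0 => ?_, fun h => absurd h (Nat.not_even_iff_odd.2 ⟨m, rfl⟩)⟩
    have hs := QuadSchemeLib.isSemiregular_baseChange Q (hQ.2 ⟨m, rfl⟩) (A := k)
    have hnd := (S17015.halfDisc_ne_zero_iff m (QuadSchemeLib.bA k) _).1 hs.ne_zero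
    have : x ∈ (QuadGrp.baseChangeForm k Q).radical :=
      ⟨hx0, LinearMap.ext fun y => hx y⟩
    rw [hnd.radical_eq_bot, Submodule.mem_bot] at this
    exact this

/-- The point of an element of the group. -/
noncomputable def ptHom (A : Type u) [CommRing A] [Algebra R A] (g : ↥(QuadGrp.sorth Q A)) :
    C.B →ₐ[R] A :=
  ((C.bijective A).2 ((D.pts A).symm g)).choose

theorem ptHom_spec (A : Type u) [CommRing A] [Algebra R A] (g : ↥(QuadGrp.sorth Q A)) :
    QuadGrp.specOverMap R (ptHom C D A g) ≫ C.f = (D.pts A).symm g :=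
  ((C.bijective A).2 ((D.pts A).symm g)).choose_spec

theorem ptHom_surjective (A : Type u) [CommRing A] [Algebra R A] (x : C.B →ₐ[R] A) :
    ptHom C D A (D.pts A (QuadGrp.specOverMap R x ≫ C.f)) = x :=
  (C.bijective A).1 ((ptHom_spec C D A _).trans ((D.pts A).symm_apply_apply _))

theorem specOverMap_comp {A A' A'' : Type u} [CommRing A] [Algebra R A] [CommRing A'] [Algebra R A']
    [CommRing A''] [Algebra R A''] (φ : A →ₐ[R] A') (ψ : A' →ₐ[R] A'') :
    QuadGrp.specOverMap R ψ ≫ QuadGrp.specOverMap R φ = QuadGrp.specOverMap R (ψ.comp φ) := by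
  apply Over.OverMorphism.ext
  exact (Spec.map_comp _ _).symm

theorem comp_ptHom {A A' : Type u} [CommRing A] [Algebra R A] [CommRing A'] [Algebra R A']
    (φ : A →ₐ[R] A') (g : ↥(QuadGrp.sorth Q A)) (g' : ↥(QuadGrp.sorth Q A'))
    (h : ∀ m, g'.1 (1 ⊗ₜ m) = chg φ (g.1 (1 ⊗ₜ m))) :
    φ.comp (ptHom C D A g) = ptHom C D A' g' := by
  refine (C.bijective A').1 ?_
  show QuadGrp.specOverMap R (φ.comp (ptHom C D A g)) ≫ C.f = _
  rw [← specOverMap_comp, Category.assoc, ptHom_spec]
  refine (Eq.trans ?_ (ptHom_spec C D A' g').symm)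
  refine (D.pts A').injective (Subtype.ext ?_)
  rw [MulEquiv.apply_symm_apply]
  refine pts_comp_eq D φ _ g'.1 fun m => ?_
  rw [MulEquiv.apply_symm_apply]
  exact h m

/-- The tautological pair of reflections joins a point to its translate. -/
theorem linked_pair (q : PrimeSpectrum R) {k : Type u} [Field k] [Algebra R k]
    (hq : RingHom.ker (algebraMap R k) = q.asIdeal) (g : ↥(QuadGrp.sorth Q k))
    {u v : k ⊗[R] (Fin n → R)} (hu : IsUnit (QuadGrp.baseChangeForm k Q u))
    (hv : IsUnit (QuadGrp.baseChangeForm k Q v)) :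
    SmoothRelDimLib.Linked q (ptHom C D k g)
      (ptHom C D k ⟨g.1 * (refl _ hu * refl _ hv),
        mul_mem g.2 (refl_mul_refl_mem_SO _ hu hv)⟩) := by
  classical
  let σ := Fin n ⊕ Fin n
  let P := MvPolynomial σ k
  let Uv : ∀ (S : Type u) [CommRing S] [Algebra R S], (σ → S) → (Fin n → σ) → S ⊗[R] (Fin n → R) :=
    fun S _ _ x s => ∑ i, x (s i) • ((1 : S) ⊗ₜ[R] Pi.basisFun R (Fin n) i)
  have hchg : ∀ {S T : Type u} [CommRing S] [Algebra R S] [CommRing T] [Algebra R T] (φ : S →ₐ[R] T)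
      (x : σ → S) (s : Fin n → σ), chg φ (Uv S x s) = Uv T (φ ∘ x) s := fun φ x s => by
    simp only [Uv, map_sum, chg_smul, chg_tmul, map_one, Function.comp_apply]
  let qP := QuadGrp.baseChangeForm P Q
  let h : P := qP (Uv P MvPolynomial.X Sum.inl) * qP (Uv P MvPolynomial.X Sum.inr)
  let cu : Fin n → k := fun i => (QuadSchemeLib.bA k).repr u i
  let cv : Fin n → k := fun i => (QuadSchemeLib.bA k).repr v i
  have hrec : ∀ (w : k ⊗[R] (Fin n → R)) (x : σ → k) (s : Fin n → σ),
      (∀ i, x (s i) = (QuadSchemeLib.bA k).repr w i) → Uv k x s = w := fun w x s hx => by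
    refine Eq.trans (Finset.sum_congr rfl fun i _ => ?_) ((QuadSchemeLib.bA k).sum_repr w)
    rw [hx, Module.Basis.baseChange_apply]
  let e₁ : P →ₐ[R] k := (MvPolynomial.aeval (Sum.elim cu cv)).restrictScalars R
  let e₂ : P →ₐ[R] k := (MvPolynomial.aeval (Sum.elim cu cu)).restrictScalars R
  have he : ∀ (c₁ c₂ : Fin n → k), (⇑((MvPolynomial.aeval (Sum.elim c₁ c₂)).restrictScalars R : P →ₐ[R] k)) ∘
      (MvPolynomial.X : σ → P) = Sum.elim c₁ c₂ := fun c₁ c₂ => funext fun i => MvPolynomial.aeval_X _ i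
  have hh₁ : IsUnit (e₁ h) := by
    rw [map_mul, ← baseChangeForm_chg, ← baseChangeForm_chg, hchg, hchg, he,
      hrec u _ Sum.inl fun i => rfl, hrec v _ Sum.inr fun i => rfl]
    exact hu.mul hv
  have hh₂ : IsUnit (e₂ h) := by
    rw [map_mul, ← baseChangeForm_chg, ← baseChangeForm_chg, hchg, hchg, he,
      hrec u _ Sum.inl fun i => rfl, hrec u _ Sum.inr fun i => rfl]
    exact hu.mul hu
  have hne : h ≠ 0 := fun h0 => not_isUnit_zero (M₀ := k) (by rw [h0, map_zero] at hh₁; exact hh₁)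
  let A := Localization.Away h
  haveI : IsDomain A := IsLocalization.isDomain_localization
    (powers_le_nonZeroDivisors_of_noZeroDivisors hne)
  let ιA : P →ₐ[R] A := IsScalarTower.toAlgHom R P A
  let lift : ∀ (e : P →ₐ[R] k), IsUnit (e h) → (A →ₐ[R] k) := fun e he =>
    IsLocalization.liftAlgHom (M := Submonoid.powers h) (f := e) (by
      rintro ⟨_, i, rfl⟩
      rw [map_pow]
      exact he.pow i)
  have hlift : ∀ e he, (lift e he).comp ιA = e := fun e he => AlgHom.ext fun x =>
    IsLocalization.lift_eq _ x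
  let U := Uv A (ιA ∘ MvPolynomial.X) Sum.inl
  let V := Uv A (ιA ∘ MvPolynomial.X) Sum.inr
  have hUV : IsUnit (QuadGrp.baseChangeForm A Q U) ∧ IsUnit (QuadGrp.baseChangeForm A Q V) := by
    have := IsLocalization.Away.algebraMap_isUnit h (S := A)
    rw [show algebraMap P A h = ιA h from rfl, map_mul, ← baseChangeForm_chg, ← baseChangeForm_chg,
      hchg, hchg] at this
    exact IsUnit.mul_iff.1 this
  let j : k →ₐ[R] A := ιA.comp (IsScalarTower.toAlgHom R k P)
  let gA : ↥(QuadGrp.sorth Q A) :=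
    ⟨(D.pts A (QuadGrp.specOverMap R j ≫ (D.pts k).symm g)).1 * (refl _ hUV.1 * refl _ hUV.2),
      mul_mem (D.pts A (QuadGrp.specOverMap R j ≫ (D.pts k).symm g)).2
        (refl_mul_refl_mem_SO _ hUV.1 hUV.2)⟩
  have main : ∀ (e : P →ₐ[R] k) (he' : IsUnit (e h)) (_ : e.comp (IsScalarTower.toAlgHom R k P) = AlgHom.id R k)
      (u' v' : k ⊗[R] (Fin n → R)) (hu' : IsUnit (QuadGrp.baseChangeForm k Q u'))
      (hv' : IsUnit (QuadGrp.baseChangeForm k Q v')) (_ : Uv k (e ∘ MvPolynomial.X) Sum.inl = u')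
      (_ : Uv k (e ∘ MvPolynomial.X) Sum.inr = v') (g' : ↥(QuadGrp.sorth Q k)),
      g'.1 = g.1 * (refl _ hu' * refl _ hv') →
        (lift e he').comp (ptHom C D A gA) = ptHom C D k g' := by
    intro e he' hek u' v' hu' hv' hU hV g' hg'
    refine comp_ptHom C D _ gA g' fun m => ?_
    have hcomp : ∀ x, (lift e he') (ιA x) = e x := fun x => DFunLike.congr_fun (hlift e he') x
    have hcU : chg (lift e he') U = u' := by
      rw [hchg, ← hU]; congr 1; funext i; exact hcomp _
    have hcV : chg (lift e he') V = v' := by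
      rw [hchg, ← hV]; congr 1; funext i; exact hcomp _
    have hj : ∀ z : k ⊗[R] (Fin n → R), chg (lift e he') (chg j z) = z := fun z => by
      induction z using TensorProduct.induction_on with
      | zero => simp
      | tmul a w =>
        rw [chg_tmul, chg_tmul]
        exact congrArg (· ⊗ₜ[R] w) ((hcomp _).trans (DFunLike.congr_fun hek a))
      | add a b ha hb => simp only [map_add, ha, hb]
    have hg₁ : ∀ z, chg (lift e he') ((D.pts A (QuadGrp.specOverMap R j ≫ (D.pts k).symm g)).1 z) =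
        g.1 (chg (lift e he') z) := fun z => by
      refine (chg_comm (lift e he') _ g.1.toLinearMap (fun w => ?_) z).symm
      have h1 := D.natural k A j ((D.pts k).symm g) w
      rw [MulEquiv.apply_symm_apply] at h1
      exact ((congrArg (chg (lift e he')) h1).trans (hj _)).symm
    rw [hg']
    show g.1 (refl _ hu' (refl _ hv' (1 ⊗ₜ m))) = chg (lift e he') ((gA.1 : _ ≃ₗ[A] _) (1 ⊗ₜ m))
    rw [LinearEquiv.mul_apply, LinearEquiv.mul_apply, hg₁]
    subst hcU hcV
    rw [chg_refl (lift e he') Q hUV.1 hu', chg_refl (lift e he') Q hUV.2 hv', chg_tmul, map_one]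
  refine ⟨A, inferInstance, inferInstance, inferInstance, ptHom C D A gA, lift e₂ hh₂, lift e₁ hh₁,
    main e₂ hh₂ (AlgHom.ext fun a => MvPolynomial.aeval_C _ a) u u hu hu ?_ ?_ g ?_,
    main e₁ hh₁ (AlgHom.ext fun a => MvPolynomial.aeval_C _ a) u v hu hv ?_ ?_ _ rfl, fun r hr => ?_,
    fun r hr => ?_⟩
  · rw [he]; exact hrec u _ _ fun i => rfl
  · rw [he]; exact hrec u _ _ fun i => rfl
  · rw [refl_mul_self, _root_.mul_one]
  · rw [he]; exact hrec u _ _ fun i => rfl
  · rw [he]; exact hrec v _ _ fun i => rfl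
  · rw [IsScalarTower.algebraMap_apply R k A, show algebraMap R k r = 0 by
      rw [← RingHom.mem_ker, hq]; exact hr, map_zero]
  · rw [IsScalarTower.algebraMap_apply R k A]
    refine IsUnit.map _ (Ne.isUnit fun h0 => hr ?_)
    rw [← hq]; exact h0

include C D in
theorem isPreconnected_fibre_sorth
    (hQ : QuadGrp.IsNondeg (Pi.basisFun R (Fin n)) (LinearEquiv.refl R R) Q) (q : PrimeSpectrum R) :
    _root_.IsPreconnected (PrimeSpectrum.comap (algebraMap R C.B) ⁻¹' {q}) := by
  let k := AlgebraicClosure q.asIdeal.ResidueField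
  have hq : RingHom.ker (algebraMap R k) = q.asIdeal := by
    ext r
    rw [RingHom.mem_ker, IsScalarTower.algebraMap_apply R q.asIdeal.ResidueField k,
      map_eq_zero_iff _ (FaithfulSMul.algebraMap_injective _ _), Ideal.algebraMap_residueField_eq_zero]
  obtain ⟨haniso, hreg⟩ := aniso_baseChange hQ k
  haveI : Algebra.FiniteType R C.B := inferInstance
  refine SmoothRelDimLib.isPreconnected_fibre q k hq (ptHom C D k 1) fun x => ?_
  rw [← ptHom_surjective C D k x]
  generalize D.pts k (QuadGrp.specOverMap R x ≫ C.f) = g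
  obtain ⟨g, hg⟩ := g
  have hg' := mem_closure_pairs _ haniso hreg hg
  suffices ∀ g, g ∈ Subgroup.closure (pairs (QuadGrp.baseChangeForm k Q)) →
      ∀ hg : g ∈ QuadGrp.sorth Q k, Relation.EqvGen (SmoothRelDimLib.Linked q) (ptHom C D k ⟨g, hg⟩)
        (ptHom C D k 1) from this g hg' hg
  have hsub : Subgroup.closure (pairs (QuadGrp.baseChangeForm k Q)) ≤ QuadGrp.sorth Q k := by
    rw [Subgroup.closure_le]
    rintro _ ⟨a, b, ha, hb, rfl⟩
    exact refl_mul_refl_mem_SO _ ha hb
  intro g hg'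
  induction hg' using Subgroup.closure_induction_right with
  | one => exact fun _ => .refl _
  | mul_right x hx y hy ih =>
    obtain ⟨a, b, ha, hb, rfl⟩ := hy
    intro _
    exact .trans _ _ _ (.symm _ _ (.rel _ _ (linked_pair C D q hq ⟨x, hsub hx⟩ ha hb))) (ih (hsub hx))
  | mul_inv_cancel x hx y hy ih =>
    obtain ⟨a, b, ha, hb, rfl⟩ := hy
    intro _
    have h := linked_pair C D q hq ⟨x, hsub hx⟩ hb ha
    simp only [mul_inv_rev, refl_inv]
    exact .trans _ _ _ (.symm _ _ (.rel _ _ h)) (ih (hsub hx))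

end Groth.Agent.SOGeomLib
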