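import Groth.Agent.CliffRegLib.Reflections
import Mathlib.FieldTheory.IsAlgClosed.Basic

/-!
# Isometries over an algebraically closed field are products of reflections

This holds for every quadratic form without isotropic vector in the radical of its polar form, in
any rank and characteristic.
-/

set_option autoImplicit false
set_option linter.style.haveILetI false

universe u v

open Polynomial

namespace Groth.Agent.SOGeomLib

open CliffRegLib

/-- No nonzero isotropic vector in the radical of the polar form. -/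
def Aniso {R : Type u} [CommRing R] {M : Type v} [AddCommGroup M] [Module R M]
    (Q : QuadraticForm R M) : Prop :=
  ∀ x, (∀ y, QuadraticMap.polar Q x y = 0) → Q x = 0 → x = 0

variable {R : Type u} [Field R] [IsAlgClosed R]

instance : Infinite (IsLocalRing.ResidueField R) :=
  Infinite.of_injective (IsLocalRing.residue R) (RingHom.injective _)

variable {M : Type v} [AddCommGroup M] [Module R M] [Module.Finite R M] (Q : QuadraticForm R M)

theorem exists_isotropic_comb {x y : M} (hxy : QuadraticMap.polar Q x y = 0) (hy : Q y ≠ 0) :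
    ∃ t : R, Q (x + t • y) = 0 := by
  obtain ⟨t, ht⟩ := IsAlgClosed.exists_pow_nat_eq (-(Q x) / Q y) (n := 2) (by norm_num)
  refine ⟨t, ?_⟩
  rw [QuadraticMap.map_add Q, QuadraticMap.map_smul, QuadraticMap.polar_smul_right, hxy,
    smul_zero, add_zero, smul_eq_mul, show t * t = t ^ 2 by ring, ht, div_mul_cancel₀ _ hy]
  ring

theorem exists_polar_ne_zero (hQ : Aniso Q) (hn : 2 ≤ Module.finrank R M) :
    ∃ x y, QuadraticMap.polar Q x y ≠ 0 := by
  by_contra h
  push Not at h
  obtain ⟨y, hy⟩ := (Module.finrank_pos_iff_exists_ne_zero (R := R) (M := M)).1 (by omega)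
  have hQy : Q y ≠ 0 := fun h0 => hy (hQ y (h y) h0)
  have htop : (Submodule.span R {y} : Submodule R M) = ⊤ := by
    refine eq_top_iff.2 fun x _ => ?_
    obtain ⟨t, ht⟩ := exists_isotropic_comb Q (h x y) hQy
    have h0 : x + t • y = 0 := hQ _ (h _) ht
    rw [Submodule.mem_span_singleton]
    exact ⟨-t, by rw [neg_smul]; exact (eq_neg_of_add_eq_zero_left h0).symm⟩
  have := finrank_span_singleton (K := R) hy
  rw [htop, finrank_top] at this
  omega

theorem exists_pair (hQ : Aniso Q) (hn : 2 ≤ Module.finrank R M) :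
    ∃ e f, IsUnit (Q e) ∧ QuadraticMap.polar Q e f = 1 ∧ IsUnit (4 * Q e * Q f - 1) := by
  obtain ⟨x, y, hxy⟩ := exists_polar_ne_zero Q hQ hn
  obtain ⟨e, he, hey⟩ : ∃ e, Q e ≠ 0 ∧ QuadraticMap.polar Q e y ≠ 0 := by
    by_cases hb : Q x = 0 ∧ Q y = 0
    · refine ⟨x + y, ?_, ?_⟩
      · rw [QuadraticMap.map_add Q, hb.1, hb.2, zero_add, zero_add]; exact hxy
      · rw [QuadraticMap.polar_add_left, QuadraticMap.polar_self, hb.2, nsmul_zero, add_zero]
        exact hxy
    · obtain ⟨s, hs1, -, hs3⟩ := exists_isUnit_three (QuadraticMap.polar Q x y) (2 * Q y) 1 0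
        (Q x) (QuadraticMap.polar Q x y) (Q y) (Or.inl (Ne.isUnit hxy)) (Or.inl isUnit_one) (by
          by_cases h : Q x = 0
          · exact Or.inr (Ne.isUnit fun h' => hb ⟨h, h'⟩)
          · exact Or.inl (Ne.isUnit h))
      refine ⟨x + s • y, ?_, ?_⟩
      · rw [QuadraticMap.map_add Q, QuadraticMap.map_smul, QuadraticMap.polar_smul_right, smul_eq_mul,
          smul_eq_mul]
        exact (show Q x + s * s * Q y + s * QuadraticMap.polar Q x y =
          Q x + s * QuadraticMap.polar Q x y + s * s * Q y by ring) ▸ hs3.ne_zero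
      · rw [QuadraticMap.polar_add_left, QuadraticMap.polar_smul_left, QuadraticMap.polar_self,
          nsmul_eq_mul, Nat.cast_ofNat, smul_eq_mul]
        exact hs1.ne_zero
  obtain ⟨f, hef⟩ : ∃ f, QuadraticMap.polar Q e f = 1 :=
    ⟨(QuadraticMap.polar Q e y)⁻¹ • y, by
      rw [QuadraticMap.polar_smul_right, smul_eq_mul, inv_mul_cancel₀ hey]⟩
  by_cases hD : 4 * Q e * Q f - 1 = 0
  swap
  · exact ⟨e, f, Ne.isUnit he, hef, Ne.isUnit hD⟩
  have h2 : (2 : R) ≠ 0 := fun h2 => one_ne_zero (α := R) (by linear_combination (2 * Q e * Q f) * h2 - hD)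
  suffices ∃ w, QuadraticMap.polar Q e w = 0 ∧ QuadraticMap.polar Q f w + Q w ≠ 0 by
    obtain ⟨w, hw, hne⟩ := this
    refine ⟨e, f + w, Ne.isUnit he, by rw [QuadraticMap.polar_add_right, hef, hw, add_zero], ?_⟩
    refine Ne.isUnit ?_
    rw [QuadraticMap.map_add Q,
      show 4 * Q e * (Q f + Q w + QuadraticMap.polar Q f w) - 1 =
        2 * (2 * Q e * (QuadraticMap.polar Q f w + Q w)) by linear_combination hD]
    exact mul_ne_zero h2 (mul_ne_zero (mul_ne_zero h2 he) hne)
  by_contra hno
  push Not at hno
  have h0 : ∀ w, QuadraticMap.polar Q e w = 0 → Q w = 0 ∧ QuadraticMap.polar Q f w = 0 := by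
    intro w hw
    have h1 := hno w hw
    have h2' := hno ((2 : R) • w) (by rw [QuadraticMap.polar_smul_right, hw, smul_zero])
    rw [QuadraticMap.polar_smul_right, QuadraticMap.map_smul, smul_eq_mul, smul_eq_mul] at h2'
    have hq : Q w = 0 := (mul_eq_zero.1 (show 2 * Q w = 0 by linear_combination h2' - 2 * h1)).resolve_left h2
    exact ⟨hq, by simpa [hq] using h1⟩
  let π : M → M := fun z => z - (QuadraticMap.polar Q e z / (2 * Q e)) • e
  have hπ : ∀ z, QuadraticMap.polar Q e (π z) = 0 := fun z => by
    simp only [π, QuadraticMap.polar_sub_right, QuadraticMap.polar_smul_right,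
      QuadraticMap.polar_self, smul_eq_mul, nsmul_eq_mul, Nat.cast_ofNat]
    field_simp
    ring
  have hrad : ∀ w, QuadraticMap.polar Q e w = 0 → ∀ z, QuadraticMap.polar Q w z = 0 := by
    intro w hw z
    have h1 : QuadraticMap.polar Q w (π z) = 0 := by
      rw [QuadraticMap.polar, (h0 (w + π z) (by rw [QuadraticMap.polar_add_right, hw, hπ, add_zero])).1,
        (h0 w hw).1, (h0 _ (hπ z)).1, sub_zero, sub_zero]
    simp only [π, QuadraticMap.polar_sub_right, QuadraticMap.polar_smul_right,
      QuadraticMap.polar_comm Q w e, hw, smul_zero, sub_zero] at h1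
    exact h1
  obtain ⟨w, hw, hw0⟩ : ∃ w ∈ LinearMap.ker (Q.polarBilin e), w ≠ 0 := by
    refine Submodule.exists_mem_ne_zero_of_ne_bot fun hbot => ?_
    have := LinearMap.finrank_le_finrank_of_injective (LinearMap.ker_eq_bot.1 hbot)
    rw [Module.finrank_self] at this
    omega
  exact hw0 (hQ w (hrad w hw) (h0 w hw).1)

/-- Isometries are products of reflections. -/
theorem mem_reflSubgroup : ∀ (n : ℕ) {M : Type v} [AddCommGroup M] [Module R M] [Module.Finite R M]
    (_ : Module.finrank R M = n) (Q : QuadraticForm R M), Aniso Q →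
    ∀ g ∈ QuadGrp.O Q, g ∈ reflSubgroup Q := by
  intro n
  induction n using Nat.strong_induction_on with
  | _ n ih =>
    intro M _ _ _ hn Q hQ g hg
    classical
    by_cases h2 : n < 2
    · by_cases hs : Subsingleton M
      · exact (LinearEquiv.ext fun x => Subsingleton.elim _ _ : g = 1) ▸ one_mem _
      rw [not_subsingleton_iff_nontrivial] at hs
      obtain ⟨e, he0⟩ := exists_ne (0 : M)
      have h1 : Module.finrank R M = 1 := by
        have := Module.finrank_pos (R := R) (M := M); omega
      have hspan : ∀ x : M, ∃ c : R, c • e = x := fun x =>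
        (finrank_eq_one_iff_of_nonzero' e he0).1 h1 x
      have he : Q e ≠ 0 := fun h => he0 (hQ e (fun y => by
        obtain ⟨c, rfl⟩ := hspan y
        rw [QuadraticMap.polar_smul_right, QuadraticMap.polar_self, h, nsmul_zero, smul_zero]) h)
      obtain ⟨l, hl⟩ := hspan (g e)
      have hl2 : (l - 1) * (l + 1) = 0 := mul_left_cancel₀ he (by
        have := hg e
        rw [← hl, QuadraticMap.map_smul, smul_eq_mul] at this
        linear_combination this)
      rcases mul_eq_zero.1 hl2 with h | h
      · have : g = 1 := LinearEquiv.ext fun x => by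
          obtain ⟨c, rfl⟩ := hspan x
          rw [map_smul, ← hl, sub_eq_zero.1 h, one_smul]; rfl
        exact this ▸ one_mem _
      · have : g = QuadGrpLib.refl Q (Ne.isUnit he) := LinearEquiv.ext fun x => by
          obtain ⟨c, rfl⟩ := hspan x
          rw [map_smul, map_smul, ← hl, QuadGrpLib.refl_apply, QuadraticMap.polar_self, nsmul_eq_mul,
            Nat.cast_ofNat, mul_left_comm, IsUnit.val_inv_mul, mul_one, two_smul,
            eq_neg_of_add_eq_zero_left h, neg_smul, one_smul]
          abel_nf
        exact this ▸ Subgroup.subset_closure ⟨_, _, rfl⟩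
    obtain ⟨e, f, he, hef, hδ⟩ := exists_pair Q hQ (by omega)
    have hgp : ∀ x y, QuadraticMap.polar Q (g x) (g y) = QuadraticMap.polar Q x y := fun x y => by
      simp only [QuadraticMap.polar, ← map_add]; rw [hg, hg, hg]
    obtain ⟨h₁, hh₁, hh₁e, -⟩ := exists_move Q (hg e) (fun _ => True) (fun _ _ _ => trivial) trivial (by
      obtain ⟨t, ht1, ht2, -⟩ := exists_isUnit_three (QuadraticMap.polar Q f (g e))
        (QuadraticMap.polar Q (g f) (g e)) (QuadraticMap.polar Q f e) (QuadraticMap.polar Q (g f) e) 1 0 0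
        (Or.inr (by rw [hgp, QuadraticMap.polar_comm, hef]; exact isUnit_one))
        (Or.inl (by rw [QuadraticMap.polar_comm, hef]; exact isUnit_one)) (Or.inl isUnit_one)
      obtain ⟨T, hT1, hT2, hT3⟩ := exists_isUnit_three
        (QuadraticMap.polar Q (f + t • g f) (g e)) (QuadraticMap.polar Q e (g e))
        (QuadraticMap.polar Q (f + t • g f) e) (QuadraticMap.polar Q e e) (Q (f + t • g f))
        (QuadraticMap.polar Q (f + t • g f) e) (Q e)
        (Or.inl (by simpa [QuadraticMap.polar_add_left, QuadraticMap.polar_smul_left] using ht1))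
        (Or.inl (by simpa [QuadraticMap.polar_add_left, QuadraticMap.polar_smul_left] using ht2))
        (Or.inr he)
      refine ⟨f + t • g f + T • e, trivial, ?_, ?_, ?_⟩
      · convert hT3 using 1
        rw [QuadraticMap.map_add Q (f + t • g f), QuadraticMap.map_smul, QuadraticMap.polar_smul_right,
          smul_eq_mul, smul_eq_mul]
        ring
      · rw [QuadraticMap.polar_add_left, QuadraticMap.polar_smul_left, smul_eq_mul]; exact hT1
      · rw [QuadraticMap.polar_add_left, QuadraticMap.polar_smul_left, smul_eq_mul]; exact hT2)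
    have hO : ∀ h ∈ reflSubgroup Q, h ∈ QuadGrp.O Q := fun h hh => by
      refine (Subgroup.closure_le (K := QuadGrp.O Q)).2 ?_ hh
      rintro _ ⟨u, hu, rfl⟩
      exact QuadGrpLib.refl_mem_O Q hu
    set f' := h₁ (g f) with hf'
    have hef' : QuadraticMap.polar Q e f' = 1 := by
      have h1p : ∀ x y, QuadraticMap.polar Q (h₁ x) (h₁ y) = QuadraticMap.polar Q x y := fun x y => by
        have h := hO h₁ hh₁
        simp only [QuadraticMap.polar, ← map_add]; rw [h, h, h]
      conv_lhs => rw [hf', ← hh₁e]
      rw [h1p, hgp, hef]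
    have hQf' : Q f' = Q f := by rw [hf', hO h₁ hh₁, hg]
    set a := Q e with ha
    have hw0 : ∀ y, QuadraticMap.polar Q e y = 1 → QuadraticMap.polar Q e ((2 * a) • y - e) = 0 :=
      fun y hy => by
        rw [QuadraticMap.polar_sub_right, QuadraticMap.polar_smul_right, hy, QuadraticMap.polar_self,
          smul_eq_mul, nsmul_eq_mul, Nat.cast_ofNat, mul_one, sub_self]
    have hw1 : ∀ y, QuadraticMap.polar Q e y = 1 →
        QuadraticMap.polar Q ((2 * a) • y - e) y = 4 * a * Q y - 1 := fun y hy => by
      rw [QuadraticMap.polar_sub_left, QuadraticMap.polar_smul_left, hy, QuadraticMap.polar_self,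
        smul_eq_mul, nsmul_eq_mul, Nat.cast_ofNat]
      ring
    obtain ⟨h₂, hh₂, hh₂f, hh₂e⟩ := exists_move Q hQf' (fun w => QuadraticMap.polar Q e w = 0)
      (fun w hw hu => by
        rw [QuadGrpLib.refl_apply, QuadraticMap.polar_sub_right, QuadraticMap.polar_sub_right,
          QuadraticMap.polar_smul_right, hw, smul_zero, hef', hef, sub_zero, sub_self])
      (by rw [QuadraticMap.polar_sub_right, hef', hef, sub_self]) (by
      obtain ⟨T, hT1, hT2, hT3⟩ := exists_isUnit_three
        (QuadraticMap.polar Q ((2 * a) • f - e) f') (QuadraticMap.polar Q ((2 * a) • f' - e) f')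
        (QuadraticMap.polar Q ((2 * a) • f - e) f) (QuadraticMap.polar Q ((2 * a) • f' - e) f)
        (Q ((2 * a) • f - e)) (QuadraticMap.polar Q ((2 * a) • f - e) ((2 * a) • f' - e))
        (Q ((2 * a) • f' - e))
        (Or.inr (by rw [hw1 _ hef', hQf']; exact hδ)) (Or.inl (by rw [hw1 _ hef]; exact hδ))
        (Or.inl (by
          have : Q ((2 * a) • f - e) = a * (4 * a * Q f - 1) := by
            rw [sub_eq_add_neg, QuadraticMap.map_add Q, QuadraticMap.map_neg, QuadraticMap.map_smul,
              QuadraticMap.polar_neg_right, QuadraticMap.polar_smul_left,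
              QuadraticMap.polar_comm Q f e, hef, smul_eq_mul, smul_eq_mul, ← ha]
            ring
          rw [this]
          exact he.mul hδ))
      refine ⟨(2 * a) • f - e + T • ((2 * a) • f' - e), ?_, ?_, ?_, ?_⟩
      · rw [QuadraticMap.polar_add_right, QuadraticMap.polar_smul_right, hw0 f hef, hw0 f' hef',
          smul_zero, add_zero]
      · convert hT3 using 1
        rw [QuadraticMap.map_add Q ((2 * a) • f - e), QuadraticMap.map_smul,
          QuadraticMap.polar_smul_right, smul_eq_mul, smul_eq_mul]
        ring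
      · rw [QuadraticMap.polar_add_left, QuadraticMap.polar_smul_left, smul_eq_mul]; exact hT1
      · rw [QuadraticMap.polar_add_left, QuadraticMap.polar_smul_left, smul_eq_mul]; exact hT2)
    set g₂ := h₂ * h₁ * g with hg₂
    have hg₂O : g₂ ∈ QuadGrp.O Q := mul_mem (mul_mem (hO _ hh₂) (hO _ hh₁)) hg
    have hg₂e : g₂ e = e := by
      rw [hg₂, LinearEquiv.mul_apply, LinearEquiv.mul_apply, hh₁e]
      exact hh₂e e fun w hw => by rw [QuadraticMap.polar_comm]; exact hw
    have hg₂f : g₂ f = f := by
      rw [hg₂, LinearEquiv.mul_apply, LinearEquiv.mul_apply]; exact hh₂f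
    suffices hmain : g₂ ∈ reflSubgroup Q by
      have hgg : g = (h₂ * h₁)⁻¹ * g₂ := by rw [hg₂]; group
      rw [hgg]
      exact mul_mem (inv_mem (mul_mem hh₂ hh₁)) hmain
    -- the complement
    let W : Submodule R M := LinearMap.ker (Q.polarBilin e) ⊓ LinearMap.ker (Q.polarBilin f)
    obtain ⟨dlt, hdlt⟩ := hδ
    let α : M →ₗ[R] R := (↑dlt⁻¹ : R) • ((2 * Q f) • Q.polarBilin e - Q.polarBilin f)
    let β : M →ₗ[R] R := (↑dlt⁻¹ : R) • ((2 * a) • Q.polarBilin f - Q.polarBilin e)
    let p : M →ₗ[R] M := LinearMap.id - α.smulRight e - β.smulRight f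
    have hp : ∀ y, p y ∈ W := fun y => by
      have h1 : (↑dlt⁻¹ : R) * (4 * a * Q f - 1) = 1 := by rw [← hdlt, Units.inv_mul]
      refine ⟨?_, ?_⟩ <;> rw [SetLike.mem_coe, LinearMap.mem_ker]
      · simp only [p, α, β, LinearMap.sub_apply, LinearMap.id_apply, LinearMap.smulRight_apply,
          LinearMap.smul_apply, map_sub, map_smul, QuadraticMap.polarBilin_apply_apply, smul_eq_mul,
          QuadraticMap.polar_self, nsmul_eq_mul, Nat.cast_ofNat, hef, ← ha]
        linear_combination (-(QuadraticMap.polar Q e y)) * h1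
      · simp only [p, α, β, LinearMap.sub_apply, LinearMap.id_apply, LinearMap.smulRight_apply,
          LinearMap.smul_apply, map_sub, map_smul, QuadraticMap.polarBilin_apply_apply, smul_eq_mul,
          QuadraticMap.polar_self, nsmul_eq_mul, Nat.cast_ofNat, QuadraticMap.polar_comm Q f e, hef, ← ha]
        linear_combination (-(QuadraticMap.polar Q f y)) * h1
    have hfix : ∀ w ∈ W, p w = w := fun w hw => by
      have h1 : QuadraticMap.polar Q e w = 0 := hw.1
      have h2 : QuadraticMap.polar Q f w = 0 := hw.2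
      simp [p, α, β, h1, h2]
    let pW : M →ₗ[R] W := p.codRestrict W hp
    have hsplit : pW ∘ₗ W.subtype = LinearMap.id := LinearMap.ext fun w => Subtype.ext (hfix w w.2)
    haveI : Module.Projective R W := Module.Projective.of_split W.subtype pW hsplit
    haveI : Module.Finite R W := Module.Finite.of_surjective pW fun w =>
      ⟨(w : M), Subtype.ext (hfix _ w.2)⟩
    haveI : Module.Free R W := Module.free_of_flat_of_isLocalRing
    have hα : ∀ x y : R, ∀ w : W, α (x • e + y • f + (w : M)) = x ∧ β (x • e + y • f + (w : M)) = y := by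
      intro x y w
      have h1 : QuadraticMap.polar Q e (w : M) = 0 := w.2.1
      have h2 : QuadraticMap.polar Q f (w : M) = 0 := w.2.2
      have h3 : (↑dlt⁻¹ : R) * (4 * a * Q f - 1) = 1 := by rw [← hdlt, Units.inv_mul]
      constructor <;>
      · simp only [α, β, LinearMap.smul_apply, LinearMap.sub_apply, map_add, map_smul,
          QuadraticMap.polarBilin_apply_apply, smul_eq_mul, QuadraticMap.polar_self, nsmul_eq_mul,
          Nat.cast_ofNat, QuadraticMap.polar_comm Q f e, hef, h1, h2, ← ha]
        first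
          | linear_combination x * h3
          | linear_combination y * h3
    let E : ((R × R) × W) ≃ₗ[R] M :=
      { toFun := fun x => x.1.1 • e + x.1.2 • f + (x.2 : M)
        invFun := fun y => ((α y, β y), pW y)
        map_add' := fun x y => by simp [add_smul]; abel
        map_smul' := fun c x => by simp [smul_smul, smul_add]
        left_inv := fun x => by
          obtain ⟨h1, h2⟩ := hα x.1.1 x.1.2 x.2
          refine Prod.ext (Prod.ext h1 h2) (Subtype.ext ?_)
          simp only [pW, LinearMap.codRestrict_apply, p, LinearMap.sub_apply, LinearMap.id_apply,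
            LinearMap.smulRight_apply, h1, h2]
          abel
        right_inv := fun y => by simp [pW, p] }
    let QW : QuadraticForm R W := Q.comp W.subtype
    have hpolW : ∀ w w' : W, QuadraticMap.polar QW w w' = QuadraticMap.polar Q (w : M) (w' : M) :=
      fun w w' => rfl
    have hdec : ∀ y : M, y = α y • e + β y • f + p y := fun y => by simp [p]
    have hQW : Aniso QW := fun w hw hw0 => by
      refine Subtype.ext (hQ (w : M) (fun y => ?_) hw0)
      conv_lhs => rw [hdec y]
      rw [QuadraticMap.polar_add_right, QuadraticMap.polar_add_right, QuadraticMap.polar_smul_right,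
        QuadraticMap.polar_smul_right, QuadraticMap.polar_comm Q (w : M) e,
        QuadraticMap.polar_comm Q (w : M) f, show QuadraticMap.polar Q e (w : M) = 0 from w.2.1,
        show QuadraticMap.polar Q f (w : M) = 0 from w.2.2, smul_zero, smul_zero, zero_add, zero_add]
      exact hw (pW y)
    have hgW : ∀ h : M ≃ₗ[R] M, h ∈ QuadGrp.O Q → h e = e → h f = f → ∀ w ∈ W, h w ∈ W := by
      intro h hh h1 h2 w hw
      have hp' : ∀ x y, QuadraticMap.polar Q (h x) (h y) = QuadraticMap.polar Q x y := fun x y => by
        simp only [QuadraticMap.polar, ← map_add]; rw [hh, hh, hh]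
      refine ⟨?_, ?_⟩ <;>
        rw [SetLike.mem_coe, LinearMap.mem_ker, QuadraticMap.polarBilin_apply_apply]
      · conv => lhs; arg 2; rw [← h1]
        rw [hp']; exact hw.1
      · conv => lhs; arg 2; rw [← h2]
        rw [hp']; exact hw.2
    have hinv : ∀ x, g₂ x = x → g₂⁻¹ x = x := fun x hx => by
      conv_lhs => rw [← hx]
      exact g₂.symm_apply_apply x
    let gW : W ≃ₗ[R] W :=
      { toFun := fun w => ⟨g₂ w, hgW g₂ hg₂O hg₂e hg₂f w w.2⟩
        invFun := fun w => ⟨g₂⁻¹ (w : M), hgW g₂⁻¹ (inv_mem hg₂O) (hinv e hg₂e) (hinv f hg₂f) w w.2⟩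
        map_add' := fun x y => Subtype.ext (by simp)
        map_smul' := fun c x => Subtype.ext (by simp)
        left_inv := fun w => Subtype.ext (g₂.symm_apply_apply _)
        right_inv := fun w => Subtype.ext (g₂.apply_symm_apply _) }
    have hgWmem := ih (Module.finrank R W) (by
      rw [← hn, ← E.finrank_eq, Module.finrank_prod, Module.finrank_prod, Module.finrank_self]
      omega) (M := W) rfl QW hQW gW fun w => hg₂O w
    let P : (W ≃ₗ[R] W) → Prop := fun h => ∃ h' ∈ reflSubgroup Q, h' e = e ∧ h' f = f ∧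
      ∀ w : W, h' (w : M) = (h w : M)
    have hP : P gW := by
      suffices hall : ∀ h ∈ reflSubgroup QW, P h from hall _ hgWmem
      intro h hh
      induction hh using Subgroup.closure_induction with
      | mem x hx =>
        obtain ⟨u, hu, rfl⟩ := hx
        have hu' : IsUnit (Q (u : M)) := hu
        refine ⟨QuadGrpLib.refl Q hu', Subgroup.subset_closure ⟨_, hu', rfl⟩,
          refl_apply_of_ortho Q hu' (by rw [QuadraticMap.polar_comm]; exact u.2.1),
          refl_apply_of_ortho Q hu' (by rw [QuadraticMap.polar_comm]; exact u.2.2), fun w => ?_⟩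
        rw [QuadGrpLib.refl_apply, QuadGrpLib.refl_apply]
        rfl
      | one => exact ⟨1, one_mem _, rfl, rfl, fun _ => rfl⟩
      | mul x y _ _ hx hy =>
        obtain ⟨x', h1, h2, h3, h4⟩ := hx
        obtain ⟨y', k1, k2, k3, k4⟩ := hy
        exact ⟨x' * y', mul_mem h1 k1, by rw [LinearEquiv.mul_apply, k2, h2],
          by rw [LinearEquiv.mul_apply, k3, h3], fun w => by
            rw [LinearEquiv.mul_apply, k4, h4]; rfl⟩
      | inv x _ hx =>
        obtain ⟨x', h1, h2, h3, h4⟩ := hx
        refine ⟨x'⁻¹, inv_mem h1, ?_, ?_, fun w => ?_⟩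
        · conv_lhs => rw [← h2]
          exact x'.symm_apply_apply e
        · conv_lhs => rw [← h3]
          exact x'.symm_apply_apply f
        · have := h4 (x⁻¹ w)
          rw [show x (x⁻¹ w) = w from x.apply_symm_apply w] at this
          conv_lhs => rw [← this]
          exact x'.symm_apply_apply _
    obtain ⟨h', hh', h1, h2, h3⟩ := hP
    have : g₂ = h' := LinearEquiv.ext fun y => by
      rw [hdec y]
      simp only [map_add, map_smul, h1, h2, hg₂e, hg₂f]
      exact congrArg _ (h3 ⟨p y, hp y⟩).symm
    rw [this]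
    exact hh'

end Groth.Agent.SOGeomLib
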