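import Groth.Agent.SOGeomLib.Points
import Groth.Agent.SOGeomLib.Refl
import Groth.Agent.S17015

/-!
# Connectedness of the fibres of special orthogonal groups
-/

set_option autoImplicit false
set_option linter.style.haveILetI false
set_option linter.unusedSectionVars false
set_option synthInstance.maxHeartbeats 200000
set_option backward.isDefEq.respectTransparency false

universe u

open CategoryTheory AlgebraicGeometry TensorProduct
open Groth.Agent.CliffRegLib Groth.Agent.QuadGrpLib

namespace Groth.Agent.SOGeomLib

variable {R : Type u} [CommRing R] {n : ℕ}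

/-- An affine smooth presentation of a scheme over an affine base. -/
structure Chart (G : Over (Spec (CommRingCat.of R))) where
  /-- The coordinate ring. -/
  B : Type u
  [cring : CommRing B]
  [alg : Algebra R B]
  [smooth : Algebra.Smooth R B]
  /-- The isomorphism. -/
  f : QuadGrp.specOver R B ⟶ G
  iso : IsIso f.left

attribute [instance] Chart.cring Chart.alg Chart.smooth

variable {G : Over (Spec (CommRingCat.of R))} (C : Chart G)

theorem Chart.bijective (A : Type u) [CommRing A] [Algebra R A] :
    Function.Bijective fun φ : C.B →ₐ[R] A => QuadGrp.specOverMap R φ ≫ C.f := by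
  haveI := C.iso
  haveI : IsIso ((Over.forget _).map C.f) := C.iso
  haveI : IsIso C.f := isIso_of_reflects_iso C.f (Over.forget _)
  constructor
  · intro φ ψ h
    have h' := congrArg (fun g => CommaMorphism.left (g ≫ inv C.f)) h
    simp only [Category.assoc, IsIso.hom_inv_id, Category.comp_id] at h'
    refine AlgHom.ext fun x => ?_
    exact congrArg (fun g => g.hom x) (Spec.map_injective h')
  · intro y
    let g := Spec.preimage (y ≫ inv C.f).left
    have hw : CommRingCat.ofHom (algebraMap R C.B) ≫ g = CommRingCat.ofHom (algebraMap R A) := by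
      apply Spec.map_injective
      rw [Spec.map_comp, show Spec.map g = (y ≫ inv C.f).left from Spec.map_preimage _]
      exact Over.w (y ≫ inv C.f)
    let φ : C.B →ₐ[R] A := ⟨g.hom, fun r => congrArg (fun m => m.hom r) hw⟩
    refine ⟨φ, ?_⟩
    show QuadGrp.specOverMap R φ ≫ C.f = y
    rw [← IsIso.eq_comp_inv]
    apply Over.OverMorphism.ext
    exact Spec.map_preimage _

theorem Chart.smoothOfRelativeDimension_iff (m : ℕ) :
    SmoothOfRelativeDimension m G.hom ↔
      RingHom.Locally (RingHom.IsStandardSmoothOfRelativeDimension m) (algebraMap R C.B) := by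
  haveI := C.iso
  haveI : IsZariskiLocalAtTarget (@SmoothOfRelativeDimension.{u} m) :=
    @HasAffineProperty.instIsZariskiLocalAtTarget _ _
      (HasRingHomProperty.HasAffineProperty (P := @SmoothOfRelativeDimension.{u} m)
        (Q := RingHom.Locally (RingHom.IsStandardSmoothOfRelativeDimension m)))
  have hG : G.hom = inv C.f.left ≫ Spec.map (CommRingCat.ofHom (algebraMap R C.B)) :=
    (IsIso.eq_inv_comp C.f.left).2 (Over.w C.f)
  rw [hG, MorphismProperty.cancel_left_of_respectsIso (P := @SmoothOfRelativeDimension m),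
    HasRingHomProperty.Spec_iff (P := @SmoothOfRelativeDimension m)]
  rfl

theorem Chart.connectedSpace_fiber
    (h : ∀ q : PrimeSpectrum R,
      _root_.IsPreconnected (PrimeSpectrum.comap (algebraMap R C.B) ⁻¹' {q}) ∧
        ∃ p, PrimeSpectrum.comap (algebraMap R C.B) p = q)
    (s : ↥(Spec (CommRingCat.of R))) : ConnectedSpace ↥(G.hom.fiber s) := by
  haveI := C.iso
  have hw : ∀ x, G.hom (C.f.left x) = PrimeSpectrum.comap (algebraMap R C.B) x := fun x => by
    rw [← Scheme.Hom.comp_apply, Over.w C.f]
    rfl
  obtain ⟨hc, p, hp⟩ := h s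
  have e : G.hom ⁻¹' {s} = C.f.left '' (PrimeSpectrum.comap (algebraMap R C.B) ⁻¹' {s}) := by
    ext y
    obtain ⟨x, rfl⟩ := (asIso C.f.left).schemeIsoToHomeo.surjective y
    refine ⟨fun hy => ⟨x, (hw x).symm.trans hy, rfl⟩, fun ⟨x', hx', hxy⟩ => ?_⟩
    rw [← show C.f.left x' = (asIso C.f.left).schemeIsoToHomeo x from hxy]
    exact (hw x').trans hx'
  have hconn : _root_.IsConnected (G.hom ⁻¹' {s}) := by
    rw [e]
    exact _root_.IsConnected.image ⟨⟨p, hp⟩, hc⟩ _ C.f.left.continuous.continuousOn
  haveI := isConnected_iff_connectedSpace.1 hconn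
  exact (G.hom.fiberHomeo s).symm.surjective.connectedSpace (G.hom.fiberHomeo s).symm.continuous

section Pairs

variable {k : Type u} [Field k] {V : Type u} [AddCommGroup V] [Module k V]

/-- Products of two reflections. -/
def pairs (q : QuadraticForm k V) : Set (V ≃ₗ[k] V) :=
  {h | ∃ (u v : V) (hu : IsUnit (q u)) (hv : IsUnit (q v)), h = refl q hu * refl q hv}

theorem refl_inv (q : QuadraticForm k V) {u : V} (hu : IsUnit (q u)) : (refl q hu)⁻¹ = refl q hu := by
  refine inv_eq_of_mul_eq_one_right (LinearEquiv.ext fun x => ?_)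
  exact Module.involutive_reflection (refl_aux q hu) x

theorem refl_mul_self (q : QuadraticForm k V) {u : V} (hu : IsUnit (q u)) :
    refl q hu * refl q hu = 1 := by
  conv_lhs => arg 1; rw [← refl_inv q hu]
  exact inv_mul_cancel _

theorem mem_closure_pairs_or (q : QuadraticForm k V) {u₀ : V} (h₀ : IsUnit (q u₀))
    {g : V ≃ₗ[k] V} (hg : g ∈ reflSubgroup q) :
    g ∈ Subgroup.closure (pairs q) ∨ refl q h₀ * g ∈ Subgroup.closure (pairs q) := by
  have step : ∀ (u : V) (hu : IsUnit (q u)) (y : V ≃ₗ[k] V),
      (y ∈ Subgroup.closure (pairs q) ∨ refl q h₀ * y ∈ Subgroup.closure (pairs q)) →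
      refl q hu * y ∈ Subgroup.closure (pairs q) ∨
        refl q h₀ * (refl q hu * y) ∈ Subgroup.closure (pairs q) := by
    rintro u hu y (hy | hy)
    · exact Or.inr (mul_assoc (refl q h₀) (refl q hu) y ▸
        mul_mem (Subgroup.subset_closure ⟨_, _, h₀, hu, rfl⟩) hy)
    · refine Or.inl ?_
      have : refl q hu * y = refl q hu * refl q h₀ * (refl q h₀ * y) := by
        rw [mul_assoc, ← mul_assoc (refl q h₀), refl_mul_self, one_mul]
      rw [this]
      exact mul_mem (Subgroup.subset_closure ⟨_, _, hu, h₀, rfl⟩) hy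
  induction hg using Subgroup.closure_induction_left with
  | one => exact Or.inl (one_mem _)
  | mul_left x hx y _ ih =>
    obtain ⟨u, hu, rfl⟩ := hx
    exact step u hu y ih
  | inv_mul_cancel x hx y _ ih =>
    obtain ⟨u, hu, rfl⟩ := hx
    rw [refl_inv]
    exact step u hu y ih

/-- Special isometries are products of pairs of reflections. -/
theorem mem_closure_pairs [IsAlgClosed k] [Module.Finite k V] (q : QuadraticForm k V) (hq : Aniso q)
    (hreg : Even (Module.finrank k V) → QuadGrp.IsRegular q) {g : V ≃ₗ[k] V}
    (hg : g ∈ QuadGrp.SO q) : g ∈ Subgroup.closure (pairs q) := by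
  have hgO : g ∈ QuadGrp.O q := by
    rw [QuadGrp.SO] at hg
    split_ifs at hg with he
    · exact hg.1
    · exact hg.1
  by_cases hu : ∃ u, IsUnit (q u)
  swap
  · push Not at hu
    have : g = 1 := LinearEquiv.ext fun x => by
      have h0 : ∀ y, q y = 0 := fun y => by_contra fun h => hu y (Ne.isUnit h)
      have : ∀ y : V, y = 0 := fun y => hq y (fun z => by simp [QuadraticMap.polar, h0]) (h0 y)
      rw [this x, map_zero, map_zero]
    rw [this]
    exact one_mem _
  have key : ∀ (u : V) (hu : IsUnit (q u)), (refl q hu ∈ QuadGrp.SO q → refl q hu ∈ Subgroup.closure (pairs q)) →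
      g ∈ Subgroup.closure (pairs q) := by
    intro u hu h1
    have hsub : Subgroup.closure (pairs q) ≤ QuadGrp.SO q := by
      rw [Subgroup.closure_le]
      rintro _ ⟨a, b, ha, hb, rfl⟩
      exact refl_mul_refl_mem_SO q ha hb
    rcases mem_closure_pairs_or q hu (SOGeomLib.mem_reflSubgroup _ rfl q hq g hgO) with h | h
    · exact h
    · have hr : refl q hu ∈ QuadGrp.SO q := by
        have := (QuadGrp.SO q).mul_mem (hsub h) ((QuadGrp.SO q).inv_mem hg)
        rwa [mul_inv_cancel_right] at this
      have := mul_mem (inv_mem (h1 hr)) h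
      rwa [inv_mul_cancel_left] at this
  by_cases he : Even (Module.finrank k V)
  · obtain ⟨u, hu⟩ := hu
    refine key u hu fun hr => absurd hr fun hr => ?_
    rw [QuadGrp.SO, if_pos he] at hr
    obtain ⟨hrO, hrd⟩ := hr
    obtain ⟨m, hm⟩ := he
    have b := Module.finBasisOfFinrankEq k V (hm.trans (two_mul m).symm)
    have hpos : 0 < 2 * m := by
      rcases Nat.eq_zero_or_pos m with rfl | h
      · exfalso
        have : u = 0 := b.ext_elem fun i => i.elim0
        rw [this, QuadraticMap.map_zero] at hu
        exact not_isUnit_zero hu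
      · omega
    have hreg' := hreg ⟨m, hm⟩
    obtain ⟨z, s, t, D⟩ := exists_centreDatum b hreg'
    have hspan := span_range_eq_top b hpos hreg'
    have h1 := (D.dicksonTrivial_iff (refl q hu) hrO hspan b hreg').1 hrd
    rw [D.fmap_refl hu] at h1
    have h2 := D.eq_zero_of_anticomm (x := 1) (by
      rw [mul_one, two_smul, sub_eq_zero]; exact (sub_eq_iff_eq_add.1 h1).symm)
    exact one_ne_zero (CliffRegLib.algebraMap_injective b q (by rw [map_one, map_zero]; exact h2))
  · by_cases h2 : (2 : k) = 0
    swap
    · obtain ⟨u, hu⟩ := hu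
      refine key u hu fun hr => absurd hr fun hr => ?_
      rw [QuadGrp.SO, if_neg he] at hr
      have := congrArg Units.val (MonoidHom.mem_ker.1 hr.2)
      rw [det_refl, Units.val_neg, Units.val_one] at this
      exact h2 (by linear_combination -this)
    · obtain ⟨u, hu, hrad⟩ : ∃ u, IsUnit (q u) ∧ ∀ y, QuadraticMap.polar q u y = 0 := by
        obtain ⟨m, hm⟩ := Nat.not_even_iff_odd.1 he
        let b := Module.finBasisOfFinrankEq k V hm
        have hdet : (polarMat b q).det = 0 := by
          rw [polarMat_eq_polarOf, ← two_mul_hd ⟨m, rfl⟩, h2, zero_mul]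
        obtain ⟨c, hc, hc0⟩ := Matrix.exists_vecMul_eq_zero_iff.2 hdet
        have hker : ∀ y, QuadraticMap.polar q (b.equivFun.symm c) y = 0 := by
          have : q.polarBilin (b.equivFun.symm c) = 0 := b.ext fun j => by
            rw [QuadraticMap.polarBilin_apply_apply, polar_eq_sum b, LinearMap.zero_apply]
            simpa [Matrix.vecMul, dotProduct, Module.Basis.equivFun_symm_apply, Finsupp.single_apply]
              using congrFun hc0 j
          exact fun y => LinearMap.congr_fun this y
        refine ⟨_, Ne.isUnit fun h0 => hc ?_, hker⟩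
        exact (LinearEquiv.map_eq_zero_iff _).1 (hq _ hker h0)
      refine key u hu fun _ => ?_
      have : refl q hu = 1 := LinearEquiv.ext fun x => by
        rw [refl_apply, hrad, mul_zero, zero_smul, sub_zero]; rfl
      rw [this]
      exact one_mem _

end Pairs

end Groth.Agent.SOGeomLib
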