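import Groth.Agent.QuadSchemeLib.Lift

/-!
# The Lie algebra of a special orthogonal group over a field
-/

set_option autoImplicit false
set_option linter.unusedSectionVars false

universe u

open Groth.Agent.CliffRegLib

namespace Groth.Agent.SOGeomLib

variable {K : Type u} [Field K] {n : ℕ}

/-- Matrices skew for the polar form of a table, with vanishing diagonal values. -/
noncomputable def lie (a : Sym2 (Fin n) → K) (special : Bool) :
    Submodule K (Matrix (Fin n) (Fin n) K) where
  carrier := {X | QuadGrpLib.co (QuadGrpLib.polarOf a * X) = 0 ∧ (special = true → X.trace = 0)}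
  zero_mem' := ⟨by
    rw [Matrix.mul_zero]
    funext p
    induction p using Sym2.ind with
    | _ i j => rw [QuadGrpLib.co_mk]; simp, fun _ => Matrix.trace_zero _ _⟩
  add_mem' := fun {X Y} hX hY => ⟨by rw [Matrix.mul_add, QuadSchemeLib.co_add, hX.1, hY.1, add_zero],
    fun h => by rw [Matrix.trace_add, hX.2 h, hY.2 h, add_zero]⟩
  smul_mem' := fun c X hX => ⟨by rw [Matrix.mul_smul, QuadSchemeLib.co_smul, hX.1, smul_zero],
    fun h => by rw [Matrix.trace_smul, hX.2 h, smul_zero]⟩

theorem mem_lie {a : Sym2 (Fin n) → K} {special : Bool} {X : Matrix (Fin n) (Fin n) K} :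
    X ∈ lie a special ↔
      QuadGrpLib.co (QuadGrpLib.polarOf a * X) = 0 ∧ (special = true → X.trace = 0) := Iff.rfl

theorem co_sub_transpose (N : Matrix (Fin n) (Fin n) K) : QuadGrpLib.co (N - N.transpose) = 0 := by
  have h := QuadSchemeLib.co_add (N - N.transpose) N.transpose
  rw [sub_add_cancel, QuadSchemeLib.co_transpose] at h
  exact (add_eq_right.1 h.symm)

theorem alternating_of_co {M : Matrix (Fin n) (Fin n) K} (h : QuadGrpLib.co M = 0) :
    (∀ i, M i i = 0) ∧ ∀ i j, M i j = -M j i := by
  have hd : ∀ i, M i i = 0 := fun i => by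
    have := congrFun h (Sym2.mk i i)
    rwa [QuadGrpLib.co_mk, if_pos rfl] at this
  refine ⟨hd, fun i j => ?_⟩
  rcases eq_or_ne i j with rfl | hij
  · rw [hd, neg_zero]
  · have := congrFun h (Sym2.mk i j)
    rw [QuadGrpLib.co_mk, if_neg hij] at this
    exact eq_neg_of_add_eq_zero_left this

/-- The strictly upper matrix of coordinates. -/
def upperOf (c : {p : Fin n × Fin n // p.1 < p.2} → K) : Matrix (Fin n) (Fin n) K :=
  Matrix.of fun i j => if h : i < j then c ⟨(i, j), h⟩ else 0

theorem upperOf_sub_apply (c : {p : Fin n × Fin n // p.1 < p.2} → K) (p : {p : Fin n × Fin n // p.1 < p.2}) :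
    (upperOf c - (upperOf c).transpose) p.1.1 p.1.2 = c p := by
  rw [Matrix.sub_apply, Matrix.transpose_apply, upperOf, Matrix.of_apply, Matrix.of_apply, dif_pos p.2,
    dif_neg p.2.asymm, sub_zero]

theorem card_pairs (k : ℕ) : Fintype.card {p : Fin k × Fin k // p.1 < p.2} * 2 = k * (k - 1) := by
  classical
  have h1 : Fintype.card {p : Fin k × Fin k // p.1 < p.2} = ∑ j ∈ Finset.range k, j := by
    rw [Fintype.card_congr (β := Σ j : Fin k, Fin (j : ℕ))
      { toFun := fun p => ⟨p.1.2, ⟨p.1.1, p.2⟩⟩
        invFun := fun s => ⟨(⟨s.2, s.2.isLt.trans s.1.isLt⟩, s.1), s.2.isLt⟩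
        left_inv := fun p => rfl
        right_inv := fun s => rfl }, Fintype.card_sigma, ← Fin.sum_univ_eq_sum_range]
    simp
  rw [h1, Finset.sum_range_id_mul_two]

/-- The dimension of the Lie algebra. -/
theorem finrank_lie (a : Sym2 (Fin n) → K) (special : Bool)
    (h : (QuadGrpLib.polarOf a).det ≠ 0 ∨
      special = true ∧ ∃ (w : Fin n → K) (i : Fin n), w i ≠ 0 ∧
        Matrix.mulVec (QuadGrpLib.polarOf a) w = 0 ∧
        ∀ z, Matrix.mulVec (QuadGrpLib.polarOf a) z = 0 → z i = 0 → z = 0) :
    Module.finrank K ↥(lie a special) = Fintype.card {p : Fin n × Fin n // p.1 < p.2} := by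
  classical
  set P := QuadGrpLib.polarOf a with hP
  have hPt : P.transpose = P := QuadSchemeLib.polarOf_transpose a
  refine le_antisymm ?_ ?_
  · rcases h with hdet | ⟨hs, w, i, hwi, hw, hker⟩
    · let f : ↥(lie a special) →ₗ[K] ({p : Fin n × Fin n // p.1 < p.2} → K) :=
        { toFun := fun X p => (P * X.1) p.1.1 p.1.2
          map_add' := fun X Y => funext fun p => by
            simp [Matrix.mul_add]
          map_smul' := fun c X => funext fun p => by
            simp [Matrix.mul_smul] }
      refine (LinearMap.finrank_le_finrank_of_injective (f := f)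
        (LinearMap.ker_eq_bot.1 (LinearMap.ker_eq_bot'.2 fun X hX => ?_))).trans_eq
          (Module.finrank_fintype_fun_eq_card K)
      obtain ⟨hd, hs⟩ := alternating_of_co X.2.1
      have h0 : P * X.1 = 0 := Matrix.ext fun r s => by
        rcases lt_trichotomy r s with hrs | rfl | hrs
        · exact congrFun hX ⟨(r, s), hrs⟩
        · exact hd r
        · rw [Matrix.zero_apply, hs r s]
          exact neg_eq_zero.2 (congrFun hX ⟨(s, r), hrs⟩)
      refine Subtype.ext ?_
      have := congrArg (fun M => P⁻¹ * M) h0
      simpa [← Matrix.mul_assoc, Matrix.nonsing_inv_mul _ (Ne.isUnit hdet)] using this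
    · let f : ↥(lie a special) →ₗ[K] ({p : Fin n × Fin n // p.1 < p.2} → K) :=
        { toFun := fun X p => if p.1.1 = i then X.1 i p.1.2
            else if p.1.2 = i then X.1 i p.1.1 else (P * X.1) p.1.1 p.1.2
          map_add' := fun X Y => funext fun p => by
            simp only [Pi.add_apply]
            split_ifs <;> simp [Matrix.mul_add]
          map_smul' := fun c X => funext fun p => by
            simp only [Pi.smul_apply, RingHom.id_apply]
            split_ifs <;> simp [Matrix.mul_smul] }
      refine (LinearMap.finrank_le_finrank_of_injective (f := f)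
        (LinearMap.ker_eq_bot.1 (LinearMap.ker_eq_bot'.2 fun X hX => ?_))).trans_eq
          (Module.finrank_fintype_fun_eq_card K)
      obtain ⟨hd, hskew⟩ := alternating_of_co X.2.1
      have h1 : ∀ r s, r ≠ i → s ≠ i → (P * X.1) r s = 0 := fun r s hr hs' => by
        rcases lt_trichotomy r s with hrs | rfl | hrs
        · have := congrFun hX ⟨(r, s), hrs⟩
          simpa [f, hr, hs'] using this
        · exact hd r
        · rw [hskew r s]
          have := congrFun hX ⟨(s, r), hrs⟩
          simpa [f, hr, hs'] using this
      have h2 : ∀ j, j ≠ i → X.1 i j = 0 := fun j hj => by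
        rcases lt_or_gt_of_ne hj with hji | hji
        · have := congrFun hX ⟨(j, i), hji⟩
          simpa [f, hj] using this
        · have := congrFun hX ⟨(i, j), hji⟩
          simpa [f] using this
      have hwP : Matrix.vecMul w (P * X.1) = 0 := by
        rw [← Matrix.vecMul_vecMul,
          show Matrix.vecMul w P = 0 by rw [← Matrix.mulVec_transpose, hPt, hw], Matrix.zero_vecMul]
      have h3 : ∀ j, j ≠ i → (P * X.1) i j = 0 := fun j hj => by
        have hj' : ∑ r, w r * (P * X.1) r j = 0 := congrFun hwP j
        rw [Finset.sum_eq_single i (fun r _ hr => by rw [h1 r j hr hj, mul_zero])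
          (fun hni => absurd (Finset.mem_univ i) hni)] at hj'
        exact (mul_eq_zero.1 hj').resolve_left hwi
      have h0 : P * X.1 = 0 := Matrix.ext fun r s => by
        rw [Matrix.zero_apply]
        rcases eq_or_ne r i with rfl | hr <;> rcases eq_or_ne s r with rfl | hsr
        · exact hd _
        · exact h3 s hsr
        · exact hd _
        · rcases eq_or_ne s i with rfl | hs'
          · rw [hskew, h3 r hr, neg_zero]
          · exact h1 r s hr hs'
      have hcol : ∀ j, ∀ z : Fin n → K, (∀ r, z r = X.1 r j) → P.mulVec z = 0 := fun j z hz => by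
        funext r
        show ∑ s, P r s * z s = 0
        simp only [hz]
        exact congrFun (congrFun h0 r) j
      have hX0 : ∀ j, j ≠ i → ∀ r, X.1 r j = 0 := fun j hj r =>
        congrFun (hker (fun r => X.1 r j) (hcol j _ fun r => rfl) (h2 j hj)) r
      have htr : X.1 i i = 0 := by
        have := X.2.2 hs
        simp only [Matrix.trace, Matrix.diag_apply] at this
        rwa [Finset.sum_eq_single i (fun r _ hr => hX0 r hr r)
          (fun hni => absurd (Finset.mem_univ i) hni)] at this
      refine Subtype.ext (Matrix.ext fun r s => ?_)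
      rcases eq_or_ne s i with rfl | hs'
      · exact congrFun (hker (fun r => X.1 r s) (hcol s _ fun r => rfl) htr) r
      · exact hX0 s hs' r
  · have hmem : ∀ c, (upperOf c - (upperOf c).transpose) * P ∈ lie a special := fun c => by
      refine ⟨?_, fun _ => ?_⟩
      · rw [← hP, Matrix.sub_mul, Matrix.mul_sub]
        have : P * ((upperOf c).transpose * P) = (P * (upperOf c * P)).transpose := by
          rw [Matrix.transpose_mul, Matrix.transpose_mul, hPt, Matrix.mul_assoc]
        rw [this]
        exact co_sub_transpose _
      · rw [Matrix.sub_mul, Matrix.trace_sub, sub_eq_zero,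
          ← Matrix.trace_transpose ((upperOf c).transpose * P), Matrix.transpose_mul,
          Matrix.transpose_transpose, hPt, Matrix.trace_mul_comm]
    let g : ({p : Fin n × Fin n // p.1 < p.2} → K) →ₗ[K] ↥(lie a special) :=
      { toFun := fun c => ⟨_, hmem c⟩
        map_add' := fun c d => Subtype.ext <| by
          show _ * P = _ * P + _ * P
          rw [← Matrix.add_mul]
          congr 1
          ext r s
          simp [upperOf]
          split_ifs <;> ring
        map_smul' := fun t c => Subtype.ext <| by
          show _ * P = t • (_ * P)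
          rw [← Matrix.smul_mul]
          congr 1
          ext r s
          simp [upperOf]
          split_ifs <;> ring }
    refine (Module.finrank_fintype_fun_eq_card K).symm.trans_le
      (LinearMap.finrank_le_finrank_of_injective (f := g)
        (LinearMap.ker_eq_bot.1 (LinearMap.ker_eq_bot'.2 fun c hc => ?_)))
    have hA : (upperOf c - (upperOf c).transpose) * P = 0 := congrArg Subtype.val hc
    have halt := alternating_of_co (co_sub_transpose (upperOf c))
    suffices hA0 : upperOf c - (upperOf c).transpose = 0 from
      funext fun p => by rw [← upperOf_sub_apply c p, hA0]; rfl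
    generalize upperOf c - (upperOf c).transpose = A at hA halt ⊢
    rcases h with hdet | ⟨hs, w, i, hwi, hw, hker⟩
    · have := congrArg (fun M => M * P⁻¹) hA
      simpa [Matrix.mul_assoc, Matrix.mul_nonsing_inv _ (Ne.isUnit hdet)] using this
    · obtain ⟨hd, hskew⟩ := halt
      have hPA : ∀ j, P.mulVec (fun r => A j r) = 0 := fun j => by
        funext r
        show ∑ s, P r s * A j s = 0
        have := congrFun (congrFun hA j) r
        rw [Matrix.mul_apply] at this
        refine Eq.trans (Finset.sum_congr rfl fun s _ => ?_) this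
        rw [mul_comm, ← congrFun (congrFun hPt r) s, Matrix.transpose_apply]
      have hi0 : ∀ s, A i s = 0 := fun s =>
        congrFun (hker (fun r => A i r) (hPA i) (hd i)) s
      refine Matrix.ext fun r s => ?_
      exact congrFun (hker (fun s => A r s) (hPA r) (by show A r i = 0; rw [hskew, hi0, neg_zero])) s

end Groth.Agent.SOGeomLib
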