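import Groth.Agent.QuadSchemeLib.Orth
import Groth.Agent.QuadSchemeLib.Cliff
import Groth.Agent.QuadSchemeLib.CliffLift
import Groth.Agent.CliffRegLib.DetDickson
import Groth.Agent.QuadGrpLib.Generic
import Groth.Agent.CliffRegLib.DicksonDet
import Groth.Agent.SmoothRelDimLib.Basic

/-!
# Points of special orthogonal groups: naturality, charts, the Dickson idempotent
-/

set_option autoImplicit false
set_option linter.style.haveILetI false
set_option linter.unusedSectionVars false

universe u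

open CategoryTheory AlgebraicGeometry TensorProduct CliffordAlgebra
open Groth.Agent.CliffRegLib Groth.Agent.QuadGrpLib

namespace Groth.Agent.SOGeomLib

variable {R : Type u} [CommRing R] {n : ℕ}

/-- Commutation with the change of coefficients is detected on `1 ⊗ M`. -/
theorem chg_comm {A A' : Type u} [CommRing A] [Algebra R A] [CommRing A'] [Algebra R A']
    (φ : A →ₐ[R] A') {M : Type u} [AddCommGroup M] [Module R M]
    (g : (A ⊗[R] M) →ₗ[A] (A ⊗[R] M)) (g' : (A' ⊗[R] M) →ₗ[A'] (A' ⊗[R] M))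
    (h : ∀ m, g' (1 ⊗ₜ m) = chg φ (g (1 ⊗ₜ m))) (z : A ⊗[R] M) : g' (chg φ z) = chg φ (g z) := by
  induction z using TensorProduct.induction_on with
  | zero => simp
  | tmul a m =>
    have e : a ⊗ₜ[R] m = a • ((1 : A) ⊗ₜ[R] m) := by rw [smul_tmul', smul_eq_mul, mul_one]
    rw [e, map_smul g, chg_smul, chg_smul, map_smul g', chg_tmul, map_one, h]
  | add x y hx hy => simp only [map_add, hx, hy]

section Lin

variable {M : Type u} [AddCommGroup M] [Module R M]
  {S : ∀ (A : Type u) [CommRing A] [Algebra R A], Subgroup ((A ⊗[R] M) ≃ₗ[A] (A ⊗[R] M))}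
  {G : Over (Spec (CommRingCat.of R))} [GrpObj G] (D : QuadGrp.LinRep R M S G)

theorem natural_apply {A A' : Type u} [CommRing A] [Algebra R A] [CommRing A'] [Algebra R A']
    (φ : A →ₐ[R] A') (y : QuadGrp.specOver R A ⟶ G) (z : A ⊗[R] M) :
    (D.pts A' (QuadGrp.specOverMap R φ ≫ y)).1 (chg φ z) = chg φ ((D.pts A y).1 z) :=
  chg_comm φ (D.pts A y).1.toLinearMap (D.pts A' (QuadGrp.specOverMap R φ ≫ y)).1.toLinearMap
    (D.natural A A' φ y) z

/-- A point is determined by its values on the image of a change of coefficients. -/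
theorem pts_comp_eq {A A' : Type u} [CommRing A] [Algebra R A] [CommRing A'] [Algebra R A']
    (φ : A →ₐ[R] A') (y : QuadGrp.specOver R A ⟶ G) (g' : (A' ⊗[R] M) ≃ₗ[A'] (A' ⊗[R] M))
    (h : ∀ m, g' (1 ⊗ₜ m) = chg φ ((D.pts A y).1 (1 ⊗ₜ m))) :
    (D.pts A' (QuadGrp.specOverMap R φ ≫ y)).1 = g' := by
  refine LinearEquiv.ext fun z => ?_
  induction z using TensorProduct.induction_on with
  | zero => simp
  | tmul a m =>
    rw [show a ⊗ₜ[R] m = a • ((1 : A') ⊗ₜ[R] m) by rw [smul_tmul', smul_eq_mul, mul_one], map_smul,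
      map_smul, h, D.natural]
    rfl
  | add x w hx hw => rw [map_add, map_add, hx, hw]

end Lin

theorem chg_refl {A A' : Type u} [CommRing A] [Algebra R A] [CommRing A'] [Algebra R A']
    (φ : A →ₐ[R] A') {M : Type u} [AddCommGroup M] [Module R M] [Module.Free R M]
    (Q : QuadraticForm R M) {U : A ⊗[R] M} (hU : IsUnit (QuadGrp.baseChangeForm A Q U))
    (hU' : IsUnit (QuadGrp.baseChangeForm A' Q (chg φ U))) (z : A ⊗[R] M) :
    chg φ (refl (QuadGrp.baseChangeForm A Q) hU z) =
      refl (QuadGrp.baseChangeForm A' Q) hU' (chg φ z) := by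
  rw [refl_apply, refl_apply, map_sub, chg_smul, map_mul, ← polar_chg φ Q]
  have e : φ (↑hU.unit⁻¹ : A) = (↑hU'.unit⁻¹ : A') := by
    refine hU'.mul_left_cancel ?_
    rw [IsUnit.mul_val_inv, baseChangeForm_chg, ← map_mul, IsUnit.mul_val_inv, map_one]
  rw [e]

section Dickson

variable (Q : QuadraticForm R (Fin n → R))
  {A A' : Type u} [CommRing A] [Algebra R A] [CommRing A'] [Algebra R A'] (φ : A →ₐ[R] A')

theorem centreDatum_bc {z : QuadSchemeLib.CQ Q A} {s t : A}
    (D : CentreDatum (QuadGrp.baseChangeForm A Q) z s t) :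
    CentreDatum (QuadGrp.baseChangeForm A' Q) (QuadSchemeLib.bc Q φ z) (φ s) (φ t) where
  even := QuadSchemeLib.bc_mem_evenOdd Q φ 0 D.even
  rel v := by
    induction v using TensorProduct.induction_on with
    | zero => simp
    | tmul a m =>
      have h := congrArg (QuadSchemeLib.bc Q φ) (D.rel ((1 : A) ⊗ₜ[R] m))
      rw [map_add, map_mul, map_mul, QuadSchemeLib.bc_smul, QuadSchemeLib.bc_ι, LinearMap.rTensor_tmul,
        AlgHom.toLinearMap_apply, map_one] at h
      rw [show a ⊗ₜ[R] m = a • ((1 : A') ⊗ₜ[R] m) by rw [smul_tmul', smul_eq_mul, mul_one], map_smul,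
        smul_mul_assoc, mul_smul_comm, ← smul_add, h, smul_comm]
    | add x y hx hy => rw [map_add, add_mul, mul_add, add_add_add_comm, hx, hy, smul_add]
  sq := by rw [← map_mul, D.sq, map_add, QuadSchemeLib.bc_smul, QuadSchemeLib.bc_algebraMap]
  unit := by
    have := D.unit.map φ
    rwa [map_add, map_mul, map_mul, map_ofNat] at this

theorem bc_fmap (g : (A ⊗[R] (Fin n → R)) ≃ₗ[A] (A ⊗[R] (Fin n → R)))
    (hg : g ∈ QuadGrp.O (QuadGrp.baseChangeForm A Q))
    (g' : (A' ⊗[R] (Fin n → R)) ≃ₗ[A'] (A' ⊗[R] (Fin n → R)))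
    (hg' : g' ∈ QuadGrp.O (QuadGrp.baseChangeForm A' Q))
    (h : ∀ z, g' (chg φ z) = chg φ (g z)) (x : QuadSchemeLib.CQ Q A) :
    QuadSchemeLib.bc Q φ (fmap g hg x) = fmap g' hg' (QuadSchemeLib.bc Q φ x) := by
  induction x using CliffordAlgebra.induction with
  | algebraMap r =>
    rw [AlgHom.commutes, QuadSchemeLib.bc_algebraMap, AlgHom.commutes]
  | ι v =>
    rw [fmap_ι, QuadSchemeLib.bc_ι, QuadSchemeLib.bc_ι, fmap_ι]
    exact congrArg _ (h v).symm
  | mul a b ha hb => rw [map_mul, map_mul, ha, hb, map_mul, map_mul]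
  | add a b ha hb => rw [map_add, map_add, ha, hb, map_add, map_add]

theorem isRegular_baseChange (hQ : QuadGrp.IsRegular Q) (A : Type u) [CommRing A] [Algebra R A] :
    QuadGrp.IsRegular (QuadGrp.baseChangeForm A Q) := by
  have h : IsUnit (QuadGrpLib.polarOf (QuadSchemeLib.tab Q A)).det := by
    rw [← QuadGrpLib.map_polarOf, ← RingHom.mapMatrix_apply, ← RingHom.map_det]
    refine IsUnit.map _ ?_
    rw [← QuadGrpLib.polarMat_eq_polarOf]
    exact QuadGrpLib.isUnit_det_polarMat _ hQ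
  exact CliffRegLib.isRegular_of_isUnit_det (QuadSchemeLib.bA A)
    (by rw [QuadGrpLib.polarMat_eq_polarOf, QuadSchemeLib.coeffs_baseChangeForm]; exact h)

/-- Membership in the special orthogonal group in even rank. -/
theorem mem_sorth_even_iff (hn : Even n) (g : (A ⊗[R] (Fin n → R)) ≃ₗ[A] (A ⊗[R] (Fin n → R))) :
    g ∈ QuadGrp.sorth Q A ↔ g ∈ QuadGrp.SOeven (QuadGrp.baseChangeForm A Q) := by
  cases subsingleton_or_nontrivial A
  · haveI : Subsingleton (A ⊗[R] (Fin n → R)) := Module.subsingleton A _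
    have hg : g = 1 := LinearEquiv.ext fun x => Subsingleton.elim _ _
    rw [hg]
    exact iff_of_true (one_mem _) (one_mem _)
  · show g ∈ QuadGrp.SO _ ↔ _
    rw [QuadGrp.SO, if_pos]
    rw [Module.finrank_eq_card_basis (QuadSchemeLib.bA (R := R) (n := n) A), Fintype.card_fin]
    exact hn

/-- Membership in the special orthogonal group in odd rank. -/
theorem mem_sorth_odd_iff (hn : Odd n) (g : (A ⊗[R] (Fin n → R)) ≃ₗ[A] (A ⊗[R] (Fin n → R))) :
    g ∈ QuadGrp.sorth Q A ↔ g ∈ QuadGrp.sorth' Q A := by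
  cases subsingleton_or_nontrivial A
  · haveI : Subsingleton (A ⊗[R] (Fin n → R)) := Module.subsingleton A _
    have hg : g = 1 := LinearEquiv.ext fun x => Subsingleton.elim _ _
    rw [hg]
    exact iff_of_true (one_mem _) (one_mem _)
  · show g ∈ QuadGrp.SO _ ↔ _
    rw [QuadGrp.SO, if_neg]
    · exact and_congr_left' (mem_orth_iff Q g).symm
    rw [Module.finrank_eq_card_basis (QuadSchemeLib.bA (R := R) (n := n) A), Fintype.card_fin,
      Nat.not_even_iff_odd]
    exact hn

end Dickson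

end Groth.Agent.SOGeomLib
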