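import Groth.Agent.SOGeomLib.Charts
import Groth.Agent.SOGeomLib.Conn
import Groth.Agent.SOGeomLib.Lie

/-!
# The tangent space of a special orthogonal group at the identity
-/

set_option autoImplicit false
set_option linter.style.haveILetI false
set_option linter.unusedSectionVars false
set_option synthInstance.maxHeartbeats 200000
set_option maxHeartbeats 1000000
set_option backward.isDefEq.respectTransparency false

universe u

open CategoryTheory AlgebraicGeometry TensorProduct MonObj
open Groth.Agent.CliffRegLib Groth.Agent.QuadGrpLib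

namespace Groth.Agent.SOGeomLib

variable {R : Type u} [CommRing R] {n : ℕ} (Q : QuadraticForm R (Fin n → R))

section First

variable {K : Type u} [Field K] [Algebra R K]

/-- A first-order matrix. -/
noncomputable def firstOrder (X : Matrix (Fin n) (Fin n) K) : Matrix (Fin n) (Fin n) (DualNumber K) :=
  Matrix.of fun i j => TrivSqZeroExt.inl ((1 : Matrix (Fin n) (Fin n) K) i j) + TrivSqZeroExt.inr (X i j)

theorem firstOrder_eq (X : Matrix (Fin n) (Fin n) K) :
    firstOrder X = 1 + (DualNumber.eps : DualNumber K) • X.map (TrivSqZeroExt.inlHom K K) := by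
  refine Matrix.ext fun i j => ?_
  rw [firstOrder, Matrix.of_apply, Matrix.add_apply, Matrix.smul_apply, Matrix.map_apply]
  refine TrivSqZeroExt.ext ?_ ?_
  · rcases eq_or_ne i j with rfl | h <;> simp [Matrix.one_apply, *]
  · rcases eq_or_ne i j with rfl | h <;> simp [Matrix.one_apply, *]

theorem det_firstOrder (X : Matrix (Fin n) (Fin n) K) :
    (firstOrder X).det = 1 + DualNumber.eps * TrivSqZeroExt.inl X.trace := by
  rw [firstOrder_eq, Matrix.det_one_add_smul, pow_two, DualNumber.eps_mul_eps, mul_zero, add_zero,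
    mul_comm _ DualNumber.eps]
  exact congrArg (fun t => (1 : DualNumber K) + DualNumber.eps * t)
    (AddMonoidHom.map_trace (TrivSqZeroExt.inlHom K K).toAddMonoidHom X).symm

theorem isUnit_det_firstOrder (X : Matrix (Fin n) (Fin n) K) : IsUnit (firstOrder X).det := by
  rw [det_firstOrder]
  exact IsNilpotent.isUnit_one_add ⟨2, by rw [mul_pow, pow_two, DualNumber.eps_mul_eps, zero_mul]⟩

theorem det_firstOrder_eq_one (X : Matrix (Fin n) (Fin n) K) :
    (firstOrder X).det = 1 ↔ X.trace = 0 := by
  rw [det_firstOrder, add_eq_left]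
  constructor
  · intro h
    simpa using congrArg TrivSqZeroExt.snd h
  · intro h
    rw [h]
    simp

theorem isIsom_firstOrder (a : Sym2 (Fin n) → K) (X : Matrix (Fin n) (Fin n) K) :
    QuadSchemeLib.IsIsom (TrivSqZeroExt.inlHom K K ∘ a) (firstOrder X) ↔
      QuadGrpLib.co (QuadGrpLib.polarOf a * X) = 0 := by
  rw [QuadSchemeLib.IsIsom, and_iff_right (isUnit_det_firstOrder X)]
  have hco : ∀ M : Matrix (Fin n) (Fin n) K,
      QuadGrpLib.co (M.map (TrivSqZeroExt.inlHom K K)) = TrivSqZeroExt.inlHom K K ∘ QuadGrpLib.co M :=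
    fun M => (QuadGrpLib.map_co _ M).symm
  have hmap : QuadGrpLib.co ((firstOrder X).transpose * upMat (TrivSqZeroExt.inlHom K K ∘ a) * firstOrder X) =
      TrivSqZeroExt.inlHom K K ∘ a + (DualNumber.eps : DualNumber K) •
        (TrivSqZeroExt.inlHom K K ∘ QuadGrpLib.co (QuadGrpLib.polarOf a * X)) := by
    rw [← QuadSplitLib.map_upMat (TrivSqZeroExt.inlHom K K), firstOrder_eq]
    set ε : DualNumber K := DualNumber.eps
    set U := (upMat a).map (TrivSqZeroExt.inlHom K K)
    set Y := X.map (TrivSqZeroExt.inlHom K K)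
    have hexp : (1 + ε • Y).transpose * U * (1 + ε • Y) =
        U + ε • (Y.transpose * U + U * Y) := by
      rw [Matrix.transpose_add, Matrix.transpose_one, Matrix.transpose_smul, Matrix.add_mul,
        Matrix.one_mul, Matrix.mul_add, Matrix.mul_one, Matrix.smul_mul, Matrix.add_mul,
        Matrix.smul_mul, Matrix.mul_smul, Matrix.mul_smul, smul_smul,
        show ε * ε = 0 from DualNumber.eps_mul_eps, zero_smul, add_zero, smul_add]
      abel
    rw [hexp, QuadSchemeLib.co_add, QuadSchemeLib.co_smul, QuadSchemeLib.co_add,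
      ← QuadSchemeLib.co_transpose (Y.transpose * U), Matrix.transpose_mul, Matrix.transpose_transpose,
      ← QuadSchemeLib.co_add, ← Matrix.add_mul, hco, co_upMat]
    congr 2
    rw [← hco]
    congr 1
    simp only [U, Y]
    rw [← Matrix.transpose_map, ← Matrix.map_add _ (map_add _), ← Matrix.map_mul,
      add_comm (upMat a).transpose, QuadSchemeLib.upMat_add_transpose']
  rw [hmap, add_eq_left]
  constructor
  · intro h
    funext p
    simpa using congrArg TrivSqZeroExt.snd (congrFun h p)
  · intro h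
    rw [h]
    funext p
    simp

theorem tab_dual :
    QuadSchemeLib.tab Q (DualNumber K) = TrivSqZeroExt.inlHom K K ∘ QuadSchemeLib.tab Q K :=
  funext fun p => IsScalarTower.algebraMap_apply R K (DualNumber K) _

/-- Membership of a first-order matrix in even rank. -/
theorem mem_sorth_firstOrder_even {m : ℕ} (hm : 1 ≤ m) (Q : QuadraticForm R (Fin (2 * m) → R))
    (hQ : QuadGrp.IsRegular Q) (X : Matrix (Fin (2 * m)) (Fin (2 * m)) K)
    (g : (DualNumber K ⊗[R] (Fin (2 * m) → R)) ≃ₗ[DualNumber K] (DualNumber K ⊗[R] (Fin (2 * m) → R)))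
    (hgX : QuadSchemeLib.matOf (QuadSchemeLib.coordsOf g) = firstOrder X) :
    g ∈ QuadGrp.sorth Q (DualNumber K) ↔
      QuadGrpLib.co (QuadGrpLib.polarOf (QuadSchemeLib.tab Q K) * X) = 0 := by
  have hev : Even (2 * m) := even_two_mul m
  have hpos : 0 < 2 * m := by omega
  have hO : g ∈ QuadGrp.O (QuadGrp.baseChangeForm (DualNumber K) Q) ↔
      QuadGrpLib.co (QuadGrpLib.polarOf (QuadSchemeLib.tab Q K) * X) = 0 := by
    rw [QuadSchemeLib.mem_O_iff, tab_dual, ← isIsom_firstOrder, ← hgX]
    rfl
  rw [mem_sorth_even_iff Q hev, ← hO]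
  refine ⟨fun h => h.1, fun hg => ⟨hg, ?_⟩⟩
  have hreg := isRegular_baseChange Q hQ (DualNumber K)
  have hspan := span_range_eq_top (QuadSchemeLib.bA (DualNumber K)) hpos hreg
  obtain ⟨z, s, t, CD⟩ := exists_centreDatum (QuadSchemeLib.bA (DualNumber K)) hreg
  obtain ⟨ε, hε, hεz⟩ := CD.exists_dickson g hg hspan (QuadSchemeLib.bA _) hreg
  let φ : DualNumber K →ₐ[R] K := TrivSqZeroExt.fstHom R K K
  have h1 : ∀ v, (1 : (K ⊗[R] (Fin (2 * m) → R)) ≃ₗ[K] (K ⊗[R] (Fin (2 * m) → R))) (1 ⊗ₜ v) =
      chg φ (g (1 ⊗ₜ v)) := chg_of_coords φ g 1 fun i j => by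
    have := congrFun (congrFun hgX i) j
    rw [QuadSchemeLib.matOf, Matrix.of_apply] at this
    rw [this, firstOrder, Matrix.of_apply]
    show LinearMap.toMatrix (QuadSchemeLib.bA K) (QuadSchemeLib.bA K) LinearMap.id i j = _
    rw [LinearMap.toMatrix_id]
    simp [φ]
  have hbc := congrArg (QuadSchemeLib.bc Q φ) hεz
  rw [bc_fmap Q φ g hg 1 (one_mem _) (fun z => chg_comm φ g.toLinearMap
      (LinearEquiv.toLinearMap 1) h1 z), map_add, QuadSchemeLib.bc_smul, QuadSchemeLib.bc_smul,
    map_sub, map_one, map_sub, QuadSchemeLib.bc_algebraMap] at hbc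
  have hφε : φ ε = 1 := by
    refine (centreDatum_bc Q φ CD).dickson_unique
      (span_range_eq_top (QuadSchemeLib.bA K) hpos (isRegular_baseChange Q hQ K)) (QuadSchemeLib.bA K)
      (hbc.symm.trans ?_)
    rw [one_smul, sub_self, zero_smul, add_zero]
    have hid : fmap (1 : (K ⊗[R] (Fin (2 * m) → R)) ≃ₗ[K] _) (one_mem _) = AlgHom.id K _ :=
      CliffordAlgebra.hom_ext (Q := QuadGrp.baseChangeForm K Q) (LinearMap.ext fun v => by simp)
    exact DFunLike.congr_fun hid _
  have hu : IsUnit ε := by
    have : IsUnit (TrivSqZeroExt.fst ε) := by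
      rw [show TrivSqZeroExt.fst ε = φ ε from rfl, hφε]
      exact isUnit_one
    exact TrivSqZeroExt.isUnit_iff_isUnit_fst.2 this
  have he : ε = 1 := hu.mul_left_cancel (by rw [hε, _root_.mul_one])
  refine (CD.dicksonTrivial_iff g hg hspan (QuadSchemeLib.bA _) hreg).2 ?_
  refine hεz.trans ?_
  rw [he, sub_self]
  exact (congrArg₂ (· + ·) (one_smul (DualNumber K) z) (zero_smul (DualNumber K) _)).trans (add_zero z)

/-- Membership of a first-order matrix in odd rank. -/
theorem mem_sorth_firstOrder_odd (hn : Odd n) (X : Matrix (Fin n) (Fin n) K)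
    (g : (DualNumber K ⊗[R] (Fin n → R)) ≃ₗ[DualNumber K] (DualNumber K ⊗[R] (Fin n → R)))
    (hgX : QuadSchemeLib.matOf (QuadSchemeLib.coordsOf g) = firstOrder X) :
    g ∈ QuadGrp.sorth Q (DualNumber K) ↔
      QuadGrpLib.co (QuadGrpLib.polarOf (QuadSchemeLib.tab Q K) * X) = 0 ∧ X.trace = 0 := by
  have hd : LinearEquiv.det g = 1 ↔ X.trace = 0 := by
    rw [← det_firstOrder_eq_one, ← hgX, Units.ext_iff, LinearEquiv.coe_det,
      ← LinearMap.det_toMatrix (QuadSchemeLib.bA (DualNumber K)), Units.val_one]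
    rfl
  rw [mem_sorth_odd_iff Q hn, ← hd, ← isIsom_firstOrder, ← tab_dual, ← hgX]
  exact ⟨fun h => ⟨(QuadSchemeLib.mem_orth_iff _ Q g).1 h.1, MonoidHom.mem_ker.1 h.2⟩,
    fun h => ⟨(QuadSchemeLib.mem_orth_iff _ Q g).2 h.1, MonoidHom.mem_ker.2 h.2⟩⟩

end First

variable {G : Over (Spec (CommRingCat.of R))} [GrpObj G] (C : Chart G) (D : QuadGrp.SOrthRep Q G)

/-- The tangent space at the identity is the space of admissible first-order matrices. -/
theorem finrank_derivation (K : Type u) [Field K] [Algebra R K] [Algebra C.B K] [IsScalarTower R C.B K]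
    (he : IsScalarTower.toAlgHom R C.B K = ptHom C D K 1)
    (W : Submodule K (Matrix (Fin n) (Fin n) K))
    (hW : ∀ (X : Matrix (Fin n) (Fin n) K)
      (g : (DualNumber K ⊗[R] (Fin n → R)) ≃ₗ[DualNumber K] (DualNumber K ⊗[R] (Fin n → R))),
      QuadSchemeLib.matOf (QuadSchemeLib.coordsOf g) = firstOrder X →
        (g ∈ QuadGrp.sorth Q (DualNumber K) ↔ X ∈ W)) :
    Module.finrank K (Derivation R C.B K) = Module.finrank K W := by
  set e := IsScalarTower.toAlgHom R C.B K with heB
  obtain ⟨u, hu⟩ : ∃ u, u = QuadSchemeLib.coordsOf (D.pts C.B C.f).1 := ⟨_, rfl⟩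
  have hcoords : ∀ (A : Type u) [CommRing A] [Algebra R A] (g : ↥(QuadGrp.sorth Q A)) (i j : Fin n),
      QuadSchemeLib.coordsOf g.1 (some (i, j)) = ptHom C D A g (u (some (i, j))) := by
    intro A _ _ g i j
    have h := coords_of_chg (ptHom C D A g) (D.pts C.B C.f).1 g.1 fun v => by
      have h2 := D.natural C.B A (ptHom C D A g) C.f v
      rw [ptHom_spec, MulEquiv.apply_symm_apply] at h2
      exact h2
    rw [hu]
    exact congrFun h (some (i, j))
  have he1 : ∀ i j, e (u (some (i, j))) = (1 : Matrix (Fin n) (Fin n) K) i j := fun i j => by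
    rw [he, ← hcoords]
    show LinearMap.toMatrix (QuadSchemeLib.bA K) (QuadSchemeLib.bA K) LinearMap.id i j = _
    rw [LinearMap.toMatrix_id]
  -- points over the dual numbers
  let ψ : Derivation R C.B K → (C.B →ₐ[R] DualNumber K) := fun δ =>
    { toFun := fun b => TrivSqZeroExt.inl (e b) + TrivSqZeroExt.inr (δ b)
      map_one' := by simp
      map_mul' := fun b b' => by
        refine TrivSqZeroExt.ext ?_ ?_
        · simp [TrivSqZeroExt.fst_mul]
        · simp only [TrivSqZeroExt.snd_add, TrivSqZeroExt.snd_inl, TrivSqZeroExt.snd_inr, zero_add,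
            TrivSqZeroExt.snd_mul, TrivSqZeroExt.fst_add, TrivSqZeroExt.fst_inl, TrivSqZeroExt.fst_inr,
            add_zero, Derivation.leibniz, smul_eq_mul, MulOpposite.smul_eq_mul_unop, MulOpposite.unop_op]
          simp only [Algebra.smul_def, heB, IsScalarTower.coe_toAlgHom']
          ring
      map_zero' := by simp
      map_add' := fun b b' => by
        refine TrivSqZeroExt.ext ?_ ?_ <;> simp
      commutes' := fun r => by
        refine TrivSqZeroExt.ext ?_ ?_
        · rw [IsScalarTower.algebraMap_apply R K (DualNumber K) r]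
          simp [e.commutes, TrivSqZeroExt.algebraMap_eq_inl]
        · rw [IsScalarTower.algebraMap_apply R K (DualNumber K) r]
          simp [TrivSqZeroExt.algebraMap_eq_inl] }
  have hψ : ∀ (δ : Derivation R C.B K) (i j : Fin n), QuadSchemeLib.coordsOf (D.pts (DualNumber K) (QuadGrp.specOverMap R (ψ δ) ≫ C.f)).1
      (some (i, j)) = firstOrder (Matrix.of fun r s => δ (u (some (r, s)))) i j := fun δ i j => by
    rw [hcoords, ptHom_surjective]
    show TrivSqZeroExt.inl (e (u (some (i, j)))) + TrivSqZeroExt.inr (δ (u (some (i, j)))) = _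
    rw [he1]
    rfl
  let T : Derivation R C.B K →ₗ[K] Matrix (Fin n) (Fin n) K :=
    { toFun := fun δ => Matrix.of fun i j => δ (u (some (i, j)))
      map_add' := fun δ δ' => Matrix.ext fun i j => rfl
      map_smul' := fun c δ => Matrix.ext fun i j => rfl }
  have hT : Function.Injective T := fun δ δ' h => by
    have h1 : (D.pts (DualNumber K) (QuadGrp.specOverMap R (ψ δ) ≫ C.f)).1 =
        (D.pts (DualNumber K) (QuadGrp.specOverMap R (ψ δ') ≫ C.f)).1 :=
      LinearEquiv.toLinearMap_injective
        ((LinearMap.toMatrix (QuadSchemeLib.bA (DualNumber K)) (QuadSchemeLib.bA (DualNumber K))).injective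
          (Matrix.ext fun i j => (hψ δ i j).trans
            ((congrArg (fun M => firstOrder M i j) h).trans (hψ δ' i j).symm)))
    have h2 : ψ δ = ψ δ' := (C.bijective (DualNumber K)).1 ((D.pts _).injective (Subtype.ext h1))
    refine Derivation.ext fun b => ?_
    simpa [ψ] using congrArg TrivSqZeroExt.snd (DFunLike.congr_fun h2 b)
  have hrange : LinearMap.range T = W := by
    refine le_antisymm ?_ fun X hX => ?_
    · rintro _ ⟨δ, rfl⟩
      exact (hW _ (D.pts (DualNumber K) (QuadGrp.specOverMap R (ψ δ) ≫ C.f)).1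
        (Matrix.ext fun i j => hψ δ i j)).1 (D.pts _ _).2
    · obtain ⟨g, hg⟩ : ∃ g : (DualNumber K ⊗[R] (Fin n → R)) ≃ₗ[DualNumber K] (DualNumber K ⊗[R] (Fin n → R)),
          LinearMap.toMatrix (QuadSchemeLib.bA (DualNumber K)) (QuadSchemeLib.bA (DualNumber K)) g.toLinearMap =
            firstOrder X :=
        ⟨Matrix.toLinearEquiv (QuadSchemeLib.bA (R := R) (DualNumber K)) (firstOrder X)
          (isUnit_det_firstOrder X), LinearMap.toMatrix_toLin _ _ _⟩
      have hgX : QuadSchemeLib.matOf (QuadSchemeLib.coordsOf g) = firstOrder X :=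
        (Matrix.ext fun i j => rfl).trans hg
      let gS : ↥(QuadGrp.sorth Q (DualNumber K)) := ⟨g, (hW X g hgX).2 hX⟩
      let φ : DualNumber K →ₐ[R] K := TrivSqZeroExt.fstHom R K K
      have hfst : φ.comp (ptHom C D (DualNumber K) gS) = e := by
        rw [he]
        refine comp_ptHom C D φ gS 1 (chg_of_coords φ g 1 fun i j => ?_)
        rw [show QuadSchemeLib.coordsOf g (some (i, j)) = firstOrder X i j from congrFun (congrFun hgX i) j]
        show LinearMap.toMatrix (QuadSchemeLib.bA K) (QuadSchemeLib.bA K) LinearMap.id i j = _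
        rw [LinearMap.toMatrix_id, firstOrder]
        simp [φ]
      have hf : ∀ b, TrivSqZeroExt.fst (ptHom C D (DualNumber K) gS b) = algebraMap C.B K b := fun b =>
        DFunLike.congr_fun hfst b
      let δ₀ : C.B →ₗ[R] K :=
        { toFun := fun b => TrivSqZeroExt.snd (ptHom C D (DualNumber K) gS b)
          map_add' := fun b b' => by simp
          map_smul' := fun r b => by simp [TrivSqZeroExt.snd_smul] }
      let δ : Derivation R C.B K :=
        Derivation.mk' δ₀ fun b b' => by
          show TrivSqZeroExt.snd _ = b • TrivSqZeroExt.snd _ + b' • TrivSqZeroExt.snd _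
          rw [map_mul, TrivSqZeroExt.snd_mul, hf, hf, smul_eq_mul, MulOpposite.smul_eq_mul_unop,
            MulOpposite.unop_op, Algebra.smul_def, Algebra.smul_def]
          ring
      refine ⟨δ, Matrix.ext fun i j => ?_⟩
      show TrivSqZeroExt.snd (ptHom C D (DualNumber K) gS (u (some (i, j)))) = X i j
      rw [← hcoords, show QuadSchemeLib.coordsOf gS.1 (some (i, j)) = firstOrder X i j from
        congrFun (congrFun hgX i) j, firstOrder]
      simp
  rw [← hrange, LinearMap.finrank_range_of_inj hT]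

end Groth.Agent.SOGeomLib
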